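import Cfsg.Agent.Lib.Lie.PGUInv.Par
import Cfsg.Prelude.Def_LieClassical
import Cfsg.Agent.Lib.Classical.UnitaryOrders

/-!
The centraliser of an involution of the projective general unitary group in dimension three, even
characteristic, is parametrised.
-/

set_option autoImplicit false
set_option linter.unusedSectionVars false

namespace Cfsg.Agent.Lie.PGUInv

open Matrix Cfsg.Agent.Classical
open Cfsg.Agent.Lie.UnitarySylow (U K3 M3 P3 Q3 basis_facts M3_gram card_fix)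

universe u

variable {F : Type u} [Field F] [Fintype F] [CharP F 2] {q : ℕ} {σ : F ≃+* F} (hσ : IsUSigma q σ)

/-- The root matrix. -/
def Nm (F : Type u) [Field F] : Matrix (Fin 3) (Fin 3) F := !![1, 1, 0; 1, 1, 0; 0, 0, 0]

/-- The root elements. -/
def MN (a : F) : Matrix (Fin 3) (Fin 3) F := 1 + a • Nm F

/-- The diagonal torus in the hyperbolic basis. -/
def Dg (l : F) : Matrix (Fin 3) (Fin 3) F := !![1, 0, 0; 0, l, 0; 0, 0, 1]

/-- The quotient map. -/
abbrev pg (x : ↥(Cfsg.GU 3 F q)) : ↥(Cfsg.GU 3 F q) ⧸ Subgroup.center ↥(Cfsg.GU 3 F q) := QuotientGroup.mk x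

theorem trace_MN (a : F) : Matrix.trace (MN a) = 1 := by
  have h2 : (2 : F) = 0 := CharTwo.two_eq_zero
  simp [MN, Nm, Matrix.trace, Fin.sum_univ_three, Matrix.diag]
  linear_combination (1 + a) * h2

include hσ

theorem exists_GU (M : Matrix (Fin 3) (Fin 3) F) (h : Mᵀ * M.map σ = 1) :
    ∃ x : ↥(Cfsg.GU 3 F q), x.1.1 = M := by
  have hu : IsUnit M := by
    rw [Matrix.isUnit_iff_isUnit_det]
    have h1 := congrArg Matrix.det h
    rw [Matrix.det_mul, Matrix.det_transpose, Matrix.det_one] at h1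
    exact IsUnit.of_mul_eq_one _ h1
  refine ⟨⟨hu.unit, ?_⟩, rfl⟩
  intro u v
  show Cfsg.hermForm 3 F q (M *ᵥ u) (M *ᵥ v) = _
  have e : ∀ u v : Fin 3 → F, Cfsg.hermForm 3 F q u v = u ⬝ᵥ (σ ∘ v) := fun u v => by
    simp [Cfsg.hermForm, dotProduct, hσ.apply_eq]
  have h1 : σ ∘ (M *ᵥ v) = M.map σ *ᵥ (σ ∘ v) := funext fun i => RingHom.map_mulVec σ.toRingHom M v i
  rw [e, e, h1, ← Matrix.vecMul_transpose, ← Matrix.dotProduct_mulVec, Matrix.mulVec_mulVec, h, Matrix.one_mulVec]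

theorem gram {x : ↥(Cfsg.GU 3 F q)} : (x.1.1)ᵀ * (x.1.1).map σ = 1 := UCount.gram_mul hσ x.2

theorem MN_gram {a : F} (ha : σ a = a) : (MN a)ᵀ * (MN a).map σ = 1 := by
  have h2 : (2 : F) = 0 := CharTwo.two_eq_zero
  ext i j
  fin_cases i <;> fin_cases j <;> simp [MN, Nm, Matrix.mul_apply, Fin.sum_univ_three, ha] <;>
    first
      | ring1
      | linear_combination (a + a * a) * h2
      | linear_combination a * h2
      | linear_combination (a * a) * h2

theorem exists_scalar {z : ↥(Cfsg.GU 3 F q)} (hz : z ∈ Subgroup.center ↥(Cfsg.GU 3 F q)) :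
    ∃ c : F, z.1.1 = c • (1 : Matrix (Fin 3) (Fin 3) F) :=
  UCount.scalar_of_commute hσ (by norm_num) fun x => by
    have h := Subgroup.mem_center_iff.1 hz ⟨Matrix.SpecialLinearGroup.toGL x.1, x.2⟩
    exact congrArg (fun w : ↥(Cfsg.GU 3 F q) => w.1.1) h

theorem pg_eq_of_smul {x y : ↥(Cfsg.GU 3 F q)} {c : F} (h : x.1.1 = c • y.1.1) : pg x = pg y := by
  refine (QuotientGroup.eq (s := Subgroup.center ↥(Cfsg.GU 3 F q))).2 (Subgroup.mem_center_iff.2 fun w => ?_)
  have hv : ((x⁻¹ * y : ↥(Cfsg.GU 3 F q)) : GL (Fin 3) F).1 * (c • (1 : Matrix (Fin 3) (Fin 3) F)) = 1 := by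
    show (x.1⁻¹ * y.1 : GL (Fin 3) F).1 * _ = _
    rw [Units.val_mul, Matrix.mul_smul, Matrix.mul_one, ← Matrix.mul_smul, ← h, Units.inv_mul]
  apply Subtype.ext
  apply Units.ext
  show w.1.1 * (x⁻¹ * y).1.1 = (x⁻¹ * y).1.1 * w.1.1
  set A := ((x⁻¹ * y : ↥(Cfsg.GU 3 F q)) : GL (Fin 3) F).1 with hA
  have hcA : c • A = 1 := by rwa [Matrix.mul_smul, Matrix.mul_one] at hv
  have hc : c ≠ 0 := fun h0 => one_ne_zero (α := Matrix (Fin 3) (Fin 3) F) (by rw [← hcA, h0, zero_smul])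
  have hA' : A = c⁻¹ • (1 : Matrix (Fin 3) (Fin 3) F) := by rw [← hcA, smul_smul, inv_mul_cancel₀ hc, one_smul]
  rw [hA', Matrix.mul_smul, Matrix.mul_one, Matrix.smul_mul, Matrix.one_mul]

theorem pg_inj {x y : ↥(Cfsg.GU 3 F q)} (h : pg x = pg y) : ∃ c : F, y.1.1 = c • x.1.1 := by
  obtain ⟨c, hc⟩ := exists_scalar hσ ((QuotientGroup.eq (s := Subgroup.center ↥(Cfsg.GU 3 F q))).1 h)
  refine ⟨c, ?_⟩
  have h1 : y = x * (x⁻¹ * y) := by rw [mul_inv_cancel_left]
  conv_lhs => rw [h1]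
  show x.1.1 * (x⁻¹ * y).1.1 = _
  rw [hc, Matrix.mul_smul, Matrix.mul_one]

theorem Dg_gram {l : F} (hl : l * σ l = 1) : (Dg l)ᵀ * K3 * (Dg l).map σ = K3 := by
  ext i j
  fin_cases i <;> fin_cases j <;> simp [Dg, K3, Matrix.mul_apply, Fin.sum_univ_three, hl]

/-- The root involution has a parametrised centraliser. -/
theorem exists_model (hq : 2 ∣ q) :
    ∃ y : ↥(Cfsg.GU 3 F q) ⧸ Subgroup.center ↥(Cfsg.GU 3 F q),
      (y ≠ 1 ∧ y * y = 1) ∧ Nonempty (Par ↥(Subgroup.centralizer ({y} : Set _)) q σ) := by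
  classical
  have h2 : (2 : F) = 0 := CharTwo.two_eq_zero
  obtain ⟨a0, ha0⟩ : ∃ a : F, a + σ a = 1 := by
    have h := (card_fix hσ).2 1 (map_one σ)
    obtain ⟨⟨a, ha⟩⟩ := (Nat.card_pos_iff.1 (by rw [h]; have := hσ.two_le; omega : 0 < Nat.card {z : F // z + σ z = 1})).1
    exact ⟨a, ha⟩
  obtain ⟨hQP, hPQ, hP, hQ⟩ := basis_facts ha0
  have hconj : ∀ M : Matrix (Fin 3) (Fin 3) F, Mᵀ * K3 * M.map σ = K3 →
      (P3 a0 * M * Q3 a0)ᵀ * (P3 a0 * M * Q3 a0).map σ = 1 := by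
    intro M hM
    rw [Matrix.map_mul, Matrix.map_mul, Matrix.transpose_mul, Matrix.transpose_mul]
    calc (Q3 a0)ᵀ * (Mᵀ * (P3 a0)ᵀ) * ((P3 a0).map σ * M.map σ * (Q3 a0).map σ)
        = (Q3 a0)ᵀ * (Mᵀ * ((P3 a0)ᵀ * (P3 a0).map σ) * M.map σ) * (Q3 a0).map σ := by simp only [Matrix.mul_assoc]
      _ = 1 := by rw [hP, hM, hQ]
  have hgr : ∀ (g : U σ) (l : Mu F q), (M3 g * Dg ((l : Fˣ) : F))ᵀ * K3 * (M3 g * Dg ((l : Fˣ) : F)).map σ = K3 := by
    intro g l
    rw [Matrix.map_mul, Matrix.transpose_mul]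
    generalize hd : Dg ((l : Fˣ) : F) = D
    calc Dᵀ * (M3 g)ᵀ * K3 * ((M3 g).map σ * D.map σ)
        = Dᵀ * ((M3 g)ᵀ * K3 * (M3 g).map σ) * D.map σ := by simp only [Matrix.mul_assoc]
      _ = K3 := by rw [M3_gram hσ, ← hd, Dg_gram hσ (UCount.norm_of_pow_eq_one hσ (MonoidHom.mem_ker.1 l.2))]
  choose w hw using fun (g : U σ) (l : Mu F q) => exists_GU hσ _ (hconj _ (hgr g l))
  obtain ⟨y, hy⟩ := exists_GU hσ _ (MN_gram hσ (map_one σ))
  have hMN : P3 a0 * (M3 (zc (1 : K σ)) * Dg 1) * Q3 a0 = MN (1 : F) := by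
    ext i j
    fin_cases i <;> fin_cases j <;> simp [P3, Q3, M3, zc, Dg, MN, Nm, Matrix.mul_apply, Fin.sum_univ_three] <;>
      first
        | ring1
        | linear_combination h2
        | linear_combination a0 * h2
        | linear_combination -h2
        | linear_combination (a0 + 1) * h2
        | linear_combination (-a0) * h2
  have hyw : w (zc 1) 1 = y := Subtype.ext (Units.ext (by rw [hw, hy]; simpa using hMN))
  have hmul : ∀ (g h k : U σ) (l m : Mu F q), k.x = g.x + ((l : Fˣ) : F) * h.x →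
      k.z = g.z + h.z + σ g.x * (((l : Fˣ) : F) * h.x) → w g l * w h m = w k (l * m) := by
    intro g h k l m h1 h3
    have hl : ((l : Fˣ) : F) * σ ((l : Fˣ) : F) = 1 := UCount.norm_of_pow_eq_one hσ (MonoidHom.mem_ker.1 l.2)
    apply Subtype.ext
    apply Units.ext
    show (w g l).1.1 * (w h m).1.1 = _
    rw [hw, hw, hw]
    have hcore : M3 g * Dg ((l : Fˣ) : F) * (M3 h * Dg ((m : Fˣ) : F)) =
        M3 k * Dg (((l * m : Mu F q) : Fˣ) : F) := by
      ext i j
      fin_cases i <;> fin_cases j <;>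
        simp [M3, Dg, Matrix.mul_apply, Fin.sum_univ_three, h1, h3] <;>
        first
          | ring1
          | linear_combination -(((m : Fˣ) : F) * σ h.x) * hl
          | linear_combination (((m : Fˣ) : F) * σ h.x) * hl
    rw [← hcore]
    generalize M3 g * Dg ((l : Fˣ) : F) = A
    generalize M3 h * Dg ((m : Fˣ) : F) = B
    calc P3 a0 * A * Q3 a0 * (P3 a0 * B * Q3 a0)
        = P3 a0 * (A * (Q3 a0 * P3 a0) * B) * Q3 a0 := by simp only [Matrix.mul_assoc]
      _ = _ := by rw [hQP, Matrix.mul_one]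
  have hcent : ∀ g l, pg (w g l) * pg y = pg y * pg (w g l) := by
    intro g l
    rw [← hyw, ← QuotientGroup.mk_mul, ← QuotientGroup.mk_mul]
    obtain ⟨k, hk1, hk2⟩ := Par.exists_k hσ g (zc (1 : K σ)) _ (Par.mu_norm hσ l)
    rw [hmul _ _ k _ _ hk1 hk2, hmul _ g k 1 l (by rw [hk1]; simp [zc]) (by rw [hk2]; simp [zc, add_comm]),
      mul_one, one_mul]
  have hy1 : pg y ≠ 1 := by
    intro e
    obtain ⟨c, hc⟩ := pg_inj hσ (x := (1 : ↥(Cfsg.GU 3 F q))) (y := y) (by rw [e]; rfl)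
    rw [hy] at hc
    have := congrFun (congrFun hc 0) 1
    simp [MN, Nm] at this
  have hy2 : pg y * pg y = 1 := by
    rw [← QuotientGroup.mk_mul, ← hyw,
      hmul _ _ (o σ) _ _ (by simp [o, zc]) (by simp [o, zc, CharTwo.add_self_eq_zero]), mul_one]
    have : w (o σ) 1 = 1 := by
      have h := hmul (o σ) (o σ) (o σ) 1 1 (by simp [o]) (by simp [o])
      rw [mul_one] at h
      exact mul_eq_left.1 h
    rw [this]
    rfl
  refine ⟨pg y, ⟨hy1, hy2⟩, ⟨⟨fun g l => ⟨pg (w g l), Subgroup.mem_centralizer_singleton_iff.2 (hcent g l)⟩,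
    ⟨?_, ?_⟩, fun g h k l m h1 h3 => Subtype.ext ((QuotientGroup.mk_mul _ _ _).symm.trans
      (congrArg pg (hmul g h k l m h1 h3)))⟩⟩⟩
  · rintro ⟨g, l⟩ ⟨h, m⟩ e
    obtain ⟨c, hc⟩ := pg_inj hσ (congrArg Subtype.val e)
    rw [hw, hw] at hc
    have hc' := congrArg (fun M => Q3 a0 * M * P3 a0) hc
    simp only [Matrix.mul_smul, Matrix.smul_mul] at hc'
    have hs : ∀ A : Matrix (Fin 3) (Fin 3) F, Q3 a0 * (P3 a0 * A * Q3 a0) * P3 a0 = A := fun A => by
      rw [show Q3 a0 * (P3 a0 * A * Q3 a0) * P3 a0 = (Q3 a0 * P3 a0) * A * (Q3 a0 * P3 a0) by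
        simp only [Matrix.mul_assoc], hQP, Matrix.one_mul, Matrix.mul_one]
    rw [hs, hs] at hc'
    have e00 := congrFun (congrFun hc' 0) 0
    simp [M3, Dg, Matrix.mul_apply, Fin.sum_univ_three] at e00
    rw [← e00, one_smul] at hc'
    have e11 := congrFun (congrFun hc' 1) 1
    have e12 := congrFun (congrFun hc' 1) 2
    have e02 := congrFun (congrFun hc' 0) 2
    simp [M3, Dg, Matrix.mul_apply, Fin.sum_univ_three] at e11 e12 e02
    exact Prod.ext (U.ext e12.symm e02.symm) (Subtype.ext (Units.ext e11.symm))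
  · rintro ⟨x, hx⟩
    obtain ⟨h, rfl⟩ := QuotientGroup.mk_surjective x
    rw [Subgroup.mem_centralizer_singleton_iff] at hx
    obtain ⟨c, hc⟩ := pg_inj hσ (x := h * y) (y := y * h) hx
    change y.1.1 * h.1.1 = c • (h.1.1 * y.1.1) at hc
    rw [hy] at hc
    have hc1 : c = 1 := by
      have e := congrArg (fun M => Matrix.trace (M * (h.1⁻¹ : GL (Fin 3) F).1)) hc
      simp only [Matrix.smul_mul, Matrix.trace_smul] at e
      rw [Matrix.trace_units_conj, Matrix.mul_assoc, Units.mul_inv, Matrix.mul_one, trace_MN, smul_eq_mul, mul_one] at e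
      exact e.symm
    rw [hc1, one_smul] at hc
    set M := Q3 a0 * h.1.1 * P3 a0 with hM
    have hMN' : Q3 a0 * MN (1 : F) * P3 a0 = M3 (zc (1 : K σ)) := by
      rw [← hMN, show Dg (1 : F) = 1 by ext i j; fin_cases i <;> fin_cases j <;> simp [Dg], Matrix.mul_one,
        show Q3 a0 * (P3 a0 * M3 (zc (1 : K σ)) * Q3 a0) * P3 a0 =
          (Q3 a0 * P3 a0) * M3 (zc (1 : K σ)) * (Q3 a0 * P3 a0) by simp only [Matrix.mul_assoc],
        hQP, Matrix.one_mul, Matrix.mul_one]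
    have hcomm : M3 (zc (1 : K σ)) * M = M * M3 (zc (1 : K σ)) := by
      rw [← hMN', hM]
      calc Q3 a0 * MN (1 : F) * P3 a0 * (Q3 a0 * h.1.1 * P3 a0)
          = Q3 a0 * (MN (1 : F) * (P3 a0 * Q3 a0) * h.1.1) * P3 a0 := by simp only [Matrix.mul_assoc]
        _ = Q3 a0 * (h.1.1 * (P3 a0 * Q3 a0) * MN (1 : F)) * P3 a0 := by rw [hPQ, Matrix.mul_one, Matrix.mul_one, hc]
        _ = _ := by simp only [Matrix.mul_assoc]
    have hgM : Mᵀ * K3 * M.map σ = K3 := by
      have hK : (P3 a0)ᵀ * ((h.1.1)ᵀ * (h.1.1).map σ) * (P3 a0).map σ = K3 := by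
        rw [gram hσ, Matrix.mul_one, hP]
      rw [hM, Matrix.map_mul, Matrix.map_mul, Matrix.transpose_mul, Matrix.transpose_mul]
      calc (P3 a0)ᵀ * ((h.1.1)ᵀ * (Q3 a0)ᵀ) * K3 * ((Q3 a0).map σ * (h.1.1).map σ * (P3 a0).map σ)
          = (P3 a0)ᵀ * ((h.1.1)ᵀ * ((Q3 a0)ᵀ * K3 * (Q3 a0).map σ) * (h.1.1).map σ) * (P3 a0).map σ := by
            simp only [Matrix.mul_assoc]
        _ = K3 := by rw [hQ, Matrix.mul_one, hK]
    have c00 := congrFun (congrFun hcomm 0) 0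
    have c01 := congrFun (congrFun hcomm 0) 1
    have c12 := congrFun (congrFun hcomm 1) 2
    have c02 := congrFun (congrFun hcomm 0) 2
    simp [M3, zc, Matrix.mul_apply, Fin.sum_univ_three] at c00 c01 c12 c02
    have g02 := congrFun (congrFun hgM 0) 2
    have g11 := congrFun (congrFun hgM 1) 1
    have g12 := congrFun (congrFun hgM 1) 2
    have g22 := congrFun (congrFun hgM 2) 2
    simp [K3, Matrix.mul_apply, Fin.sum_univ_three] at g02 g11 g12 g22
    have h20 : M 2 0 = 0 := by linear_combination c00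
    have h21 : M 2 1 = 0 := by linear_combination c01
    have h10 : M 1 0 = 0 := c12
    have h22 : M 2 2 = M 0 0 := by linear_combination c02
    simp only [h20, h21, h10, h22, map_zero, mul_zero, zero_mul, add_zero, zero_add] at g02 g11 g12 g22
    set a := M 0 0
    have ha : a ≠ 0 := left_ne_zero_of_mul_eq_one g02
    have hsa : σ a = a⁻¹ := eq_inv_of_mul_eq_one_right g02
    let g : U σ := ⟨M 1 2 / a, M 0 2 / a, by
      rw [map_div₀, map_div₀, hsa]
      field_simp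
      rw [hsa] at g22
      field_simp at g22
      linear_combination g22 - (M 1 2 * σ (M 1 2)) * a * h2⟩
    have hl : M 1 1 / a * σ (M 1 1 / a) = 1 := by
      rw [map_div₀, hsa]; field_simp; linear_combination g11
    have hl0 : M 1 1 / a ≠ 0 := left_ne_zero_of_mul_eq_one hl
    let l : Mu F q := ⟨Units.mk0 _ hl0, MonoidHom.mem_ker.2 (UCount.pow_eq_one_of_norm hσ hl)⟩
    refine ⟨(g, l), Subtype.ext ((pg_eq_of_smul hσ (x := h) (y := w g l) (c := a) ?_).symm)⟩
    rw [hw]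
    have hMh : h.1.1 = P3 a0 * M * Q3 a0 := by
      rw [hM, show P3 a0 * (Q3 a0 * h.1.1 * P3 a0) * Q3 a0 = (P3 a0 * Q3 a0) * h.1.1 * (P3 a0 * Q3 a0) by
        simp only [Matrix.mul_assoc], hPQ, Matrix.one_mul, Matrix.mul_one]
    have hMs : M = a • (M3 g * Dg ((l : Fˣ) : F)) := by
      rw [hsa] at g12
      ext i j
      fin_cases i <;> fin_cases j <;>
        simp [M3, Dg, g, l, Matrix.mul_apply, Fin.sum_univ_three, hsa, h10, h20, h21, h22] <;>
        (try field_simp) <;>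
        first
          | ring1
          | (field_simp at g12; linear_combination g12)
          | (field_simp at g12; linear_combination g12 - (M 1 1 * σ (M 1 2)) * a * h2)
          | (field_simp at g12; linear_combination g12 - (M 1 1 * σ (M 1 2) * a) * h2)
    rw [hMh, hMs, Matrix.mul_smul, Matrix.smul_mul]

end Cfsg.Agent.Lie.PGUInv
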