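import Cfsg.Agent.Lib.Lie.PGUInv.Setup
import Cfsg.Agent.Lib.Lie.PGUInv.Model
import Cfsg.Agent.Lib.Spor.PSUTransfer
import Cfsg.Agent.Lib.Small.PSUn.Out
import Cfsg.Agent.Lib.Classical.UnitaryForm

/-!
Recognition of the projective general unitary group in dimension three by an involution centraliser.
-/

set_option autoImplicit false
set_option linter.unusedSectionVars false

namespace Cfsg.Agent.Lie.PGUInv

open Cfsg.Agent.Classical MulAction
open Cfsg.Agent.Small.PSUn

universe u v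

variable {F : Type u} [Field F] [Fintype F] [CharP F 2] {q : ℕ} {σ : F ≃+* F}

theorem inv_iff {G : Type v} [Group G] {x : G} : Inv x ↔ orderOf x = 2 := by
  constructor
  · intro h
    exact orderOf_eq_prime (by rw [pow_two, h.2]) h.1
  · intro h
    exact ⟨fun e => by rw [e, orderOf_one] at h; norm_num at h,
      by rw [← pow_two]; exact orderOf_dvd_iff_pow_eq_one.1 h.dvd⟩

/-- Transport of a parametrisation along an isomorphism. -/
noncomputable def Par.transport {C : Type v} [Group C] {C' : Type*} [Group C'] (e : C ≃* C') (E : Par C' q σ) :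
    Par C q σ where
  f g l := e.symm (E.f g l)
  bij := e.symm.bijective.comp E.bij
  mul g h k l m h1 h2 := by rw [← map_mul, E.mul g h k l m h1 h2]

theorem exists_hyp {G : Type v} [Group G] [Finite G] (hσ : IsUSigma q σ) (h2q : 2 ∣ q) (h4q : 4 ≤ q)
    (heven : Even (Nat.card G)) (hconj : ∀ s t : G, orderOf s = 2 → orderOf t = 2 → IsConj s t)
    (hC : ∀ (x : G) (y : (↥(Cfsg.GU 3 F q) ⧸ Subgroup.center ↥(Cfsg.GU 3 F q))), orderOf x = 2 → orderOf y = 2 →
      Nonempty (↥(Subgroup.centralizer ({x} : Set G)) ≃* ↥(Subgroup.centralizer ({y} : Set (↥(Cfsg.GU 3 F q) ⧸ Subgroup.center ↥(Cfsg.GU 3 F q))))))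
    (hS : ∀ P : Sylow 2 G, ¬ (P : Subgroup G).Normal) : Hyp G q σ := by
  haveI : Fact (Nat.Prime 2) := ⟨Nat.prime_two⟩
  have hpar : ∀ t : G, Inv t → Nonempty (Par ↥(Subgroup.centralizer ({t} : Set G)) q σ) := fun t ht => by
    obtain ⟨y, hy, ⟨E⟩⟩ := exists_model hσ h2q
    obtain ⟨e⟩ := hC t y (inv_iff.1 ht) (inv_iff.1 hy)
    exact ⟨Par.transport e E⟩
  have hcj : ∀ s t : G, Inv s → Inv t → ∃ g : G, g * s * g⁻¹ = t := fun s t hs ht =>
    isConj_iff.1 (hconj s t (inv_iff.1 hs) (inv_iff.1 ht))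
  refine ⟨hσ, h2q, h4q, hcj, ?_, hpar⟩
  by_contra hno
  push Not at hno
  obtain ⟨t, ht⟩ := exists_prime_orderOf_dvd_card' 2 (even_iff_two_dvd.1 heven)
  have ht' := inv_iff.2 ht
  obtain ⟨E⟩ := hpar t ht'
  have hclsAll : ∀ g : G, g * t * g⁻¹ * t = t * (g * t * g⁻¹) := fun g => hno _ _ (ht'.conj g) ht'
  -- the kernel of the torus projection is a normal Sylow subgroup
  have hCn : ∀ (g x : G), x ∈ CI t → g * x * g⁻¹ ∈ CI t := fun g x hx => by
    obtain ⟨a, ha⟩ := E.sq_eq_one hσ h2q (x := ⟨g⁻¹ * t * g, mem_cent.2 (by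
      have := hclsAll g⁻¹
      rwa [inv_inv] at this)⟩) (Subtype.ext (show g⁻¹ * t * g * (g⁻¹ * t * g) = 1 by
        rw [show g⁻¹ * t * g * (g⁻¹ * t * g) = g⁻¹ * (t * t) * g by group, ht'.2]; group))
    have h1 := congrArg Subtype.val (E.zel_comm hσ a ⟨x, hx⟩)
    have h2 : g⁻¹ * t * g = ((E.zel a : CI t) : G) := congrArg Subtype.val ha
    rw [Subgroup.coe_mul, Subgroup.coe_mul, ← h2] at h1
    refine mem_cent.2 ?_
    calc g * x * g⁻¹ * t = g * (x * (g⁻¹ * t * g)) * g⁻¹ := by group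
      _ = g * ((g⁻¹ * t * g) * x) * g⁻¹ := by rw [h1]
      _ = t * (g * x * g⁻¹) := by group
  have hHS : HS t = ⊤ := eq_top_iff.2 fun g _ => by
    rw [HS, Subgroup.mem_normalizer_iff]
    refine fun x => ⟨hCn g x, fun hx => ?_⟩
    have := hCn g⁻¹ _ hx
    simpa [mul_assoc] using this
  let P : Subgroup G := (E.pi hσ).ker.map (CI t).subtype
  have hPn : P.Normal := by
    constructor
    rintro _ ⟨y, hy, rfl⟩ g
    refine ⟨(CI t).normalizerMonoidHom ⟨g, (show g ∈ HS t by rw [hHS]; exact Subgroup.mem_top g)⟩ y, ?_, rfl⟩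
    refine E.mem_ker_of_pow_two hσ h2q (j := 2) ?_
    rw [← map_pow, show (2 : ℕ) ^ 2 = 4 from rfl, E.pow_ker hσ hy, map_one]
  have hPcard : Nat.card P = q ^ 3 := by
    rw [Subgroup.card_map_of_injective (Subgroup.subtype_injective _), E.card_ker hσ]
  have hPp : IsPGroup 2 P := fun x => ⟨2, by
    obtain ⟨x, y, hy, rfl⟩ := x
    exact Subtype.ext (congrArg Subtype.val (E.pow_ker hσ hy) :)⟩
  -- count the involutions commuting with `t`
  have hidx : ¬ 2 ∣ P.index := by
    have hCI : (CI t).relIndex (HS t) = Nat.card {s : G // Inv s ∧ s * t = t * s} := by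
      letI : MulAction (HS t) {s : G // Inv s ∧ s * t = t * s} :=
        { smul := fun d s => ⟨(d : G) * s.1 * (d : G)⁻¹, s.2.1.conj _, hno _ _ (s.2.1.conj _) ht'⟩
          one_smul := fun s => Subtype.ext (show ((1 : HS t) : G) * s.1 * ((1 : HS t) : G)⁻¹ = s.1 by simp)
          mul_smul := fun d e s => Subtype.ext (show ((d * e : HS t) : G) * s.1 * ((d * e : HS t) : G)⁻¹ =
            (d : G) * ((e : G) * s.1 * (e : G)⁻¹) * (d : G)⁻¹ by simp [mul_assoc]) }
      haveI : IsPretransitive (HS t) {s : G // Inv s ∧ s * t = t * s} := ⟨fun a b => by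
        obtain ⟨g, hg⟩ := hcj a.1 b.1 a.2.1 b.2.1
        exact ⟨⟨g, (show g ∈ HS t by rw [hHS]; exact Subgroup.mem_top g)⟩, Subtype.ext hg⟩⟩
      have hst : stabilizer (HS t) (⟨t, ht', rfl⟩ : {s : G // Inv s ∧ s * t = t * s}) = (CI t).subgroupOf (HS t) := by
        ext d
        rw [mem_stabilizer_iff, Subgroup.mem_subgroupOf, CI, mem_cent, Subtype.ext_iff]
        exact mul_inv_eq_iff_eq_mul
      rw [Subgroup.relIndex, ← hst, index_stabilizer_of_transitive]
    have hq1 : Nat.card {s : G // Inv s ∧ s * t = t * s} = q - 1 := by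
      classical
      have e : {a : K σ // a ≠ 0} ≃ {s : G // Inv s ∧ s * t = t * s} := by
        refine Equiv.ofBijective (fun a => ⟨(E.zel a.1).1, ⟨fun h => a.2 (E.zel_inj ?_),
          congrArg Subtype.val (E.zel_sq hσ a.1)⟩, mem_cent.1 (E.zel a.1).2⟩) ⟨?_, ?_⟩
        · rw [E.zel_zero hσ]; exact Subtype.ext h
        · intro a b h
          exact Subtype.ext (E.zel_inj (Subtype.ext (congrArg Subtype.val h :)))
        · rintro ⟨s, hs, hst⟩
          obtain ⟨a, ha⟩ := E.sq_eq_one hσ h2q (x := ⟨s, mem_cent.2 hst⟩) (Subtype.ext hs.2)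
          refine ⟨⟨a, fun h0 => hs.1 ?_⟩, Subtype.ext (congrArg Subtype.val ha).symm⟩
          rw [h0, E.zel_zero hσ] at ha
          exact congrArg Subtype.val ha
      rw [← Nat.card_congr e, Nat.card_eq_fintype_card, Fintype.card_subtype_compl, Fintype.card_subtype_eq,
        ← Nat.card_eq_fintype_card, card_K hσ]
    rw [hHS, Subgroup.relIndex_top_right, hq1] at hCI
    have h1 := Subgroup.card_mul_index P
    rw [← Subgroup.card_mul_index (CI t), hCI, hPcard, E.card_C hσ, mul_assoc] at h1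
    rw [Nat.eq_of_mul_eq_mul_left (pow_pos (by omega) 3) h1, ← even_iff_two_dvd, Nat.not_even_iff_odd]
    exact (Even.add_one (even_iff_two_dvd.2 h2q)).mul (Nat.Even.sub_odd (by omega) (even_iff_two_dvd.2 h2q) odd_one)
  exact hS (hPp.toSylow hidx) (by simpa using hPn)

theorem MN_mem (hσ : IsUSigma q σ) {a : F} (ha : σ a = a) : ∃ x : ↥(Cfsg.SU 3 F q), x.1.1 = MN a := by
  refine Cfsg.Agent.Local.FS.PSU3Simple.exists_SU_of_gram hσ _ ?_ (MN_gram hσ ha)
  have h2 : (2 : F) = 0 := CharTwo.two_eq_zero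
  simp [MN, Nm, Matrix.det_fin_three]
  linear_combination a * h2

theorem MN_mul (a b : F) : MN a * MN b = MN (a + b) := by
  have h2 : (2 : F) = 0 := CharTwo.two_eq_zero
  ext i j
  fin_cases i <;> fin_cases j <;> simp [MN, Nm, Matrix.mul_apply, Fin.sum_univ_three] <;>
    first
      | ring1
      | linear_combination (a * b) * h2

variable {G : Type v} [Group G] [Finite G]

theorem Hyp.recognition (hH : Hyp G q σ) :
    Nonempty (G ≃* (↥(Cfsg.GU 3 F q) ⧸ Subgroup.center ↥(Cfsg.GU 3 F q))) := by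
  classical
  have hσ := hH.sigma
  have hF : Fintype.card F = q ^ 2 := hσ.card
  obtain ⟨j, hj2, hqj⟩ := hH.q_facts
  letI : StarRing F := Cfsg.Agent.Small.Hermitian.starRingOfInvolution (σ : F →+* F) hσ.involutive
  have hstar : ∀ x : F, star x = x ^ q := fun x => hσ.apply_eq x
  have hs32 : ¬ (3 = 3 ∧ q = 2) := fun h => by have := hH.four; omega
  obtain ⟨s0, t0, hs0, -, -⟩ := hH.pair
  obtain ⟨L, hLn, hLodd, F', hF1, hF2, hF', ⟨e0⟩⟩ := hH.unitary hs0
  obtain ⟨e1⟩ := Cfsg.Agent.Spor.PSUTransfer.psu_congr (n := 3) (q := q)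
    (FiniteField.ringEquivOfCardEq (K := F') (K' := F) (hF'.trans hF.symm))
  let e : L ≃* Cfsg.PSU 3 F q := e0.trans e1
  choose X hX using fun a : K σ => MN_mem hσ (mem_K.1 a.2)
  let z : K σ → G := fun a => ((e.symm (pu (X a)) : L) : G)
  have hpu : ∀ {x x' : ↥(Cfsg.SU 3 F q)}, (pu x : Cfsg.PSU 3 F q) = pu x' →
      ∃ c : F, x'.1.1 = c • x.1.1 := fun {x x'} h => by
    have h1 : x⁻¹ * x' ∈ Subgroup.center ↥(Cfsg.SU 3 F q) :=
      (QuotientGroup.eq (s := Subgroup.center ↥(Cfsg.SU 3 F q))).1 h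
    obtain ⟨c, hc⟩ := UCount.scalar_of_commute hσ (M := (x⁻¹ * x').1.1) (by norm_num) fun w =>
      congrArg (fun y : ↥(Cfsg.SU 3 F q) => y.1.1) (Subgroup.mem_center_iff.1 h1 w)
    refine ⟨c, ?_⟩
    conv_lhs => rw [show x' = x * (x⁻¹ * x') by rw [mul_inv_cancel_left]]
    show x.1.1 * (x⁻¹ * x').1.1 = _
    rw [hc, Matrix.mul_smul, Matrix.mul_one]
  have hXmul : ∀ a b : K σ, X a * X b = X (a + b) := fun a b => Cfsg.Agent.Local.FS.PSU3Simple.ext_val (by
    show (X a).1.1 * (X b).1.1 = _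
    rw [hX, hX, hX, MN_mul]; rfl)
  have hX0 : X 0 = 1 := Cfsg.Agent.Local.FS.PSU3Simple.ext_val (by
    rw [hX]; show MN ((0 : K σ) : F) = 1; simp [MN])
  have hzmul : ∀ a b, z a * z b = z (a + b) := fun a b => by
    show ((e.symm (pu (X a)) * e.symm (pu (X b)) : L) : G) = _
    rw [← map_mul, ← map_mul, hXmul]
  have hz : ∀ a : K σ, a ≠ 0 → Inv (z a) := fun a ha => by
    refine ⟨fun h => ha ?_, by
      rw [hzmul, show a + a = 0 from Subtype.ext (CharTwo.add_self_eq_zero (a : F))]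
      show ((e.symm (pu (X 0)) : L) : G) = 1
      rw [hX0, map_one, map_one]; rfl⟩
    have h1 : e.symm (pu (X a)) = 1 := Subtype.ext h
    rw [MulEquiv.map_eq_one_iff] at h1
    obtain ⟨c, hc⟩ := hpu (x := (1 : ↥(Cfsg.SU 3 F q))) (x' := X a) (by rw [h1, map_one])
    rw [hX] at hc
    have := congrFun (congrFun hc 0) 1
    simp [MN, Nm] at this
    exact this
  let t := z 1
  have ht : Inv t := hz 1 one_ne_zero
  obtain ⟨E⟩ := hH.par t ht
  obtain ⟨u, hS, hcard⟩ := hH.setup ht E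
  haveI := hH.faithful ht
  have hu : pt0 t ≠ u • pt0 t := fun h => hS.not_mem (mem_stabilizer_iff.2 h.symm)
  -- all elements of two-power order lie in `L`
  have hL2 : ∀ x : G, x ^ 4 = 1 → x ∈ L := fun x hx => by
    rw [← QuotientGroup.eq_one_iff (N := L), ← orderOf_eq_one_iff]
    refine Nat.eq_one_of_dvd_coprimes ((Nat.coprime_two_left.2 hLodd).pow_left 2) ?_ (orderOf_dvd_natCard _)
    exact orderOf_dvd_of_pow_eq_one (by rw [← QuotientGroup.mk_pow, show (2 : ℕ) ^ 2 = 4 from rfl, hx]; rfl)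
  have hLinv : ∀ v : G, Inv v → v ∈ L := fun v hv => hL2 v (by
    rw [show 4 = 2 * 2 from rfl, pow_mul, pow_two v, hv.2, one_pow])
  let Φ : G →* MulAut (Cfsg.PSU 3 F q) := (MulAut.congr e).toMonoidHom.comp MulAut.conjNormal
  have hΦ : ∀ (g : G) (x : L), Φ g (e x) = e (MulAut.conjNormal g x) := fun g x => by
    show e (MulAut.conjNormal g (e.symm (e x))) = _
    rw [e.symm_apply_apply]
  have hinj : Function.Injective Φ := by
    rw [injective_iff_map_eq_one]
    intro m hm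
    have hcomm : ∀ x ∈ L, m * x * m⁻¹ = x := fun x hx => by
      have h1 := hΦ m ⟨x, hx⟩
      rw [hm, MulAut.one_apply] at h1
      exact congrArg Subtype.val (e.injective h1).symm
    refine FaithfulSMul.eq_of_smul_eq_smul (α := G ⧸ HS t) fun p => ?_
    obtain ⟨g, rfl⟩ := QuotientGroup.mk_surjective p
    rw [one_smul, MulAction.Quotient.smul_coe, QuotientGroup.eq, ← inv_mem_iff]
    refine hH.CI_le_HS t (mem_cent.2 ?_)
    have h1 := mul_inv_eq_iff_eq_mul.1 (hcomm _ (hLinv _ (ht.conj g)))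
    calc ((m • g)⁻¹ * g)⁻¹ * t = g⁻¹ * (m * (g * t * g⁻¹)) * g := by simp only [smul_eq_mul]; group
      _ = g⁻¹ * ((g * t * g⁻¹) * m) * g := by rw [h1]
      _ = t * ((m • g)⁻¹ * g)⁻¹ := by simp only [smul_eq_mul]; group
  let R : Subgroup G := (cU (n := 3) (F := F) (q := q)).range.comap Φ
  have hLR : ∀ x ∈ L, x ∈ R := fun x hx => by
    obtain ⟨y, hy⟩ := pu_surjective (e ⟨x, hx⟩)
    refine ⟨toU y, ?_⟩
    rw [cU_toU, hy]
    refine MulEquiv.ext fun w => ?_
    obtain ⟨w, rfl⟩ := e.surjective w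
    rw [hΦ, MulAut.conj_apply, ← map_inv, ← map_mul, ← map_mul]
    exact congrArg e (Subtype.ext (by simp [MulAut.conjNormal_apply]))
  obtain ⟨Θ, hΘ, hker⟩ := exists_theta (n := 3) hstar hF le_rfl hs32
  have hoddC : ∀ c ∈ CI t, Odd (orderOf c) → c ∈ R := by
    intro c hc hodd
    obtain ⟨g, τ, hgτ⟩ := aut_decomp hstar hF le_rfl hs32 (Φ c)
    have hfix : ∀ a : K σ, Φ c (pu (X a)) = pu (X a) := fun a => by
      rcases eq_or_ne a 0 with rfl | ha
      · rw [hX0, map_one, map_one]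
      · have h1 : z a * t = t * z a := by rw [hzmul, hzmul, add_comm]
        have h2 : c ∈ CI (z a) := by
          rw [CI, hH.cent_eq (hz a ha) ht h1]; exact hc
        rw [← e.apply_symm_apply (pu (X a)), hΦ]
        congr 1
        apply Subtype.ext
        rw [MulAut.conjNormal_apply]
        exact mul_inv_eq_iff_eq_mul.2 (mem_cent.1 h2)
    have hmat : ∀ a : K σ, (τ (a : F)) • (g.1.1 * Nm F * (g.1⁻¹ : GL (Fin 3) F).1) = (a : F) • Nm F := fun a => by
      have h1 := hfix a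
      rw [hgτ, MulAut.mul_apply, fU_apply, cU_apply] at h1
      obtain ⟨k, hk⟩ := hpu h1.symm
      rw [conjU_val, fieldU_val, hX] at hk
      have hmap : (MN (a : F)).map τ = MN (τ (a : F)) := by
        ext i l
        fin_cases i <;> fin_cases l <;> simp [MN, Nm]
      rw [hmap] at hk
      have hk1 : k = 1 := by
        have e := congrArg Matrix.trace hk
        rw [Matrix.trace_units_conj, Matrix.trace_smul, trace_MN, trace_MN, smul_eq_mul, mul_one] at e
        exact e.symm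
      rw [hk1, one_smul, MN, MN, Matrix.mul_add, Matrix.add_mul, Matrix.mul_one, Units.mul_inv, Matrix.mul_smul,
        Matrix.smul_mul] at hk
      exact add_left_cancel hk
    have hτK : ∀ a, σ a = a → τ a = a := fun a ha => by
      have h1 := hmat 1
      rw [show ((1 : K σ) : F) = 1 from rfl, map_one, one_smul, one_smul] at h1
      have h2 := hmat ⟨a, ha⟩
      rw [h1] at h2
      have h3 := congrFun (congrFun h2 0) 1
      simpa [Nm] using h3
    have hsq : ∀ a, τ (τ a) = a := by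
      intro a
      have e1 := hτK (a + σ a) (by rw [map_add, hσ.involutive, add_comm])
      have e2 := hτK (a * σ a) (by rw [map_mul, hσ.involutive, mul_comm])
      rw [map_add] at e1
      rw [map_mul] at e2
      have h0 : (τ a - a) * (τ a - σ a) = 0 := by linear_combination τ a * e1 - e2
      rcases mul_eq_zero.1 h0 with h | h
      · rw [sub_eq_zero] at h; rw [h, h]
      · rw [sub_eq_zero] at h
        rw [h, hσ.apply_eq, map_pow, h, ← hσ.apply_eq, hσ.involutive]
    have hΘc : Θ (Φ c) = τ := by rw [hgτ, hΘ]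
    have hτ1 : τ = 1 := by
      obtain ⟨k, hk⟩ := hodd
      have h1 : τ ^ orderOf c = 1 := by rw [← hΘc, ← map_pow, ← map_pow, pow_orderOf_eq_one, map_one, map_one]
      have h2 : τ ^ 2 = 1 := RingEquiv.ext fun a => by rw [pow_two]; exact hsq a
      rw [hk, pow_succ, pow_mul, h2, one_pow, one_mul] at h1
      exact h1
    exact ⟨g, by rw [hgτ, hτ1, map_one, mul_one]⟩
  have hCR : ∀ c ∈ CI t, c ∈ R := by
    intro c hc
    obtain ⟨i, hi⟩ : ∃ i, q = 4 * i := ⟨2 ^ (j - 2), by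
      rw [hqj, show (4 : ℕ) = 2 ^ 2 from rfl, ← pow_add]; congr 1; omega⟩
    have h1 : ((⟨c, hc⟩ : CI t) ^ (q + 1)) ∈ (E.pi hσ).ker := by
      rw [MonoidHom.mem_ker, map_pow, ← UCount.card_mu hσ]
      exact pow_card_eq_one'
    have h4 : (c ^ (q + 1)) ^ 4 = 1 := congrArg Subtype.val (E.pow_ker hσ h1)
    have hodd : Odd (orderOf (c ^ q)) := by
      refine (Even.add_one (even_iff_two_dvd.2 hH.two) : Odd (q + 1)).of_dvd_nat (orderOf_dvd_of_pow_eq_one ?_)
      rw [← pow_mul, mul_comm, pow_mul, hi, pow_mul, ← hi, h4, one_pow]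
    rw [show c = c ^ (q + 1) * (c ^ q)⁻¹ by rw [pow_succ', mul_inv_cancel_right]]
    exact mul_mem (hLR _ (hL2 _ h4)) (inv_mem (hoddC _ (pow_mem hc q) hodd))
  have hR : R = ⊤ := by
    rw [eq_top_iff]
    intro g _
    have hHSR : ∀ h ∈ HS t, h ∈ R := fun h hh => by
      obtain ⟨v, w, hv, hw, -, -, hk⟩ := hH.exists_two ht hu hh
      rw [show h = v * w * ((v * w)⁻¹ * h) by rw [mul_inv_cancel_left]]
      exact mul_mem (hLR _ (mul_mem (hLinv v hv) (hLinv w hw))) (hCR _ hk)
    by_cases hg : pt0 t = g • pt0 t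
    · exact hHSR g ((stab_pt0 t).le (mem_stabilizer_iff.2 hg.symm))
    · obtain ⟨v, hv, hvp⟩ := hH.exists_swap ht hg
      rw [show g = v * (v * g) by rw [← mul_assoc, hv.2, one_mul]]
      refine mul_mem (hLR _ (hLinv v hv)) (hHSR _ ((stab_pt0 t).le (mem_stabilizer_iff.2 ?_)))
      rw [mul_smul, ← hvp, ← mul_smul, hv.2, one_smul]
  have hkerc : (cU (n := 3) (F := F) (q := q)).ker = Subgroup.center ↥(Cfsg.GU 3 F q) := by
    ext x
    constructor
    · intro hx
      obtain ⟨c, hc⟩ := (cU_eq_one_iff hstar hF le_rfl x).1 hx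
      subst hc
      rw [Subgroup.mem_center_iff]
      intro w
      apply Subtype.ext
      apply Units.ext
      show w.1.1 * (scalarU hstar c).1.1 = (scalarU hstar c).1.1 * w.1.1
      rw [scalarU_val, Matrix.mul_smul, Matrix.mul_one, Matrix.smul_mul, Matrix.one_mul]
    · intro hx
      obtain ⟨c, hc⟩ := exists_scalar hσ hx
      exact cU_of_scalar hc
  have hcardC : Nat.card (Subgroup.center ↥(Cfsg.GU 3 F q)) = q + 1 := by
    rw [← hkerc, ← card_U1 (F := F) hF]
    refine (Nat.card_congr (Equiv.ofBijective (fun c : U1 F q =>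
      (⟨scalarU hstar c, cU_scalarU hstar c⟩ : (cU (n := 3) (F := F) (q := q)).ker)) ⟨?_, ?_⟩)).symm
    · intro c d h
      have h1 := congrArg (fun x : (cU (n := 3) (F := F) (q := q)).ker => x.1.1.1 0 0) h
      simp only [scalarU_val] at h1
      exact Subtype.ext (Units.ext (by simpa using h1))
    · rintro ⟨x, hx⟩
      obtain ⟨c, hc⟩ := (cU_eq_one_iff hstar hF le_rfl x).1 hx
      exact ⟨c, Subtype.ext hc.symm⟩
  let ψ : (↥(Cfsg.GU 3 F q) ⧸ Subgroup.center ↥(Cfsg.GU 3 F q)) ≃* (cU (n := 3) (F := F) (q := q)).range :=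
    (QuotientGroup.quotientMulEquivOfEq hkerc.symm).trans (QuotientGroup.quotientKerEquivRange _)
  let Φ' : G →* (cU (n := 3) (F := F) (q := q)).range :=
    Φ.codRestrict _ fun g => (hR ▸ Subgroup.mem_top g : g ∈ R)
  have hcardQ : Nat.card (cU (n := 3) (F := F) (q := q)).range = Nat.card G := by
    rw [← Nat.card_congr ψ.toEquiv, hcard]
    refine Nat.eq_of_mul_eq_mul_right (show 0 < q + 1 by omega) ?_
    conv_lhs => rw [← hcardC, ← Subgroup.card_eq_card_quotient_mul_card_subgroup,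
      ← UCount.card_SU hσ (by norm_num : 1 ≤ 3)]
    rw [Cfsg.Agent.Local.FS.PSU3Simple.card_SU3 hσ]
    rw [show q ^ 2 - 1 = (q + 1) * (q - 1) by rw [← Nat.sq_sub_sq, one_pow]]
    ring
  haveI : Finite (cU (n := 3) (F := F) (q := q)).range := Nat.finite_of_card_ne_zero (by rw [hcardQ]; exact Nat.card_pos.ne')
  have hb : Function.Bijective Φ' := (Nat.bijective_iff_injective_and_card Φ').2
    ⟨fun a b h => hinj (congrArg Subtype.val h :), hcardQ.symm⟩
  exact ⟨(MulEquiv.ofBijective Φ' hb).trans ψ.symm⟩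

end Cfsg.Agent.Lie.PGUInv
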