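import Cfsg.Agent.Lib.Lie.UnitarySylow

/-!
Parametrised centraliser of an involution of `PGU₃(q)`, `q` even, and the action of its automorphisms.
-/

set_option autoImplicit false
set_option linter.unusedSectionVars false

namespace Cfsg.Agent.Lie.PGUInv

open Cfsg.Agent.Classical
open Cfsg.Agent.Lie.UnitarySylow (U card_U card_fix exists_z)

universe u v

/-- The norm-one units. -/
abbrev Mu (F : Type u) [Field F] (q : ℕ) : Subgroup Fˣ := (powMonoidHom (q + 1)).ker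

/-- A parametrisation of a group by pairs of a unitriangular coordinate and a norm-one unit. -/
structure Par (C : Type v) [Group C] {F : Type u} [Field F] (q : ℕ) (σ : F ≃+* F) where
  f : U σ → Mu F q → C
  bij : Function.Bijective (fun p : U σ × Mu F q => f p.1 p.2)
  mul : ∀ (g h k : U σ) (l m : Mu F q), k.x = g.x + ((l : Fˣ) : F) * h.x →
    k.z = g.z + h.z + σ g.x * (((l : Fˣ) : F) * h.x) → f g l * f h m = f k (l * m)

variable {F : Type u} [Field F] [Fintype F] [CharP F 2] {q : ℕ} {σ : F ≃+* F} (hσ : IsUSigma q σ)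

/-- The fixed field of `σ`. -/
abbrev K (σ : F ≃+* F) : Subfield F := RingHom.eqLocusField (σ : F →+* F) (RingHom.id F)

theorem mem_K {a : F} : a ∈ K σ ↔ σ a = a := Iff.rfl

/-- The zero coordinate. -/
def o (σ : F ≃+* F) : U σ := ⟨0, 0, by simp⟩

/-- A central coordinate. -/
def zc (a : K σ) : U σ := ⟨0, a, by rw [mem_K.1 a.2, CharTwo.add_self_eq_zero, zero_mul]⟩

theorem card_K (hσ : IsUSigma q σ) : Nat.card (K σ) = q := by
  exact (card_fix hσ).1

namespace Par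

variable {C : Type v} [Group C] (E : Par C q σ)

/-- The second coordinate. -/
noncomputable def pi' (x : C) : Mu F q := ((Equiv.ofBijective _ E.bij).symm x).2

/-- The first coordinate. -/
noncomputable def co (x : C) : U σ := ((Equiv.ofBijective _ E.bij).symm x).1

theorem f_co (x : C) : E.f (E.co x) (E.pi' x) = x := (Equiv.ofBijective _ E.bij).apply_symm_apply x

theorem inj {g h : U σ} {l m : Mu F q} (e : E.f g l = E.f h m) : g = h ∧ l = m :=
  Prod.mk.injEq _ _ _ _ ▸ (E.bij.1 (a₁ := (g, l)) (a₂ := (h, m)) e)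

theorem pi'_f (g : U σ) (l : Mu F q) : E.pi' (E.f g l) = l := (E.inj (E.f_co (E.f g l))).2

theorem co_f (g : U σ) (l : Mu F q) : E.co (E.f g l) = g := (E.inj (E.f_co (E.f g l))).1

include hσ

theorem exists_k (g h : U σ) (c : F) (hc : c * σ c = 1) :
    ∃ k : U σ, k.x = g.x + c * h.x ∧ k.z = g.z + h.z + σ g.x * (c * h.x) := by
  refine ⟨⟨g.x + c * h.x, g.z + h.z + σ g.x * (c * h.x), ?_⟩, rfl, rfl⟩
  simp only [map_add, map_mul, hσ.involutive]
  linear_combination g.rel + h.rel - (h.x * σ h.x) * hc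

theorem mu_norm (l : Mu F q) : ((l : Fˣ) : F) * σ (l : Fˣ) = 1 :=
  UCount.norm_of_pow_eq_one hσ (MonoidHom.mem_ker.1 l.2)

theorem f_one : E.f (o σ) 1 = 1 := by
  have h := E.mul (o σ) (o σ) (o σ) 1 1 (by simp [o]) (by simp [o])
  rw [mul_one] at h
  exact mul_eq_left.1 h

theorem pi'_mul (x y : C) : E.pi' (x * y) = E.pi' x * E.pi' y := by
  conv_lhs => rw [← E.f_co x, ← E.f_co y]
  obtain ⟨k, hk1, hk2⟩ := exists_k hσ (E.co x) (E.co y) _ (mu_norm hσ (E.pi' x))
  rw [E.mul _ _ k _ _ hk1 hk2, E.pi'_f]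

/-- The projection to the norm-one units. -/
noncomputable def pi : C →* Mu F q := MonoidHom.mk' E.pi' (E.pi'_mul hσ)

theorem pi_apply (x : C) : E.pi hσ x = E.pi' x := rfl

theorem card_C (E : Par C q σ) : Nat.card C = q ^ 3 * (q + 1) := by
  rw [← Nat.card_congr (Equiv.ofBijective _ E.bij), Nat.card_prod, card_U hσ, UCount.card_mu hσ]

theorem card_ker : Nat.card (E.pi hσ).ker = q ^ 3 := by
  rw [← card_U hσ]
  refine (Nat.card_congr (Equiv.ofBijective (fun g : U σ => (⟨E.f g 1, E.pi'_f g 1⟩ : (E.pi hσ).ker)) ⟨?_, ?_⟩)).symm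
  · intro g h e
    exact (E.inj (congrArg Subtype.val e)).1
  · rintro ⟨x, hx⟩
    refine ⟨E.co x, Subtype.ext ?_⟩
    have h := E.f_co x
    rwa [show E.pi' x = 1 from hx] at h

omit hσ in
/-- The central involutions. -/
def zel (a : K σ) : C := E.f (zc a) 1

omit hσ in
theorem zel_inj {a b : K σ} (h : E.zel a = E.zel b) : a = b :=
  Subtype.ext (congrArg U.z (E.inj h).1)

theorem zel_zero : E.zel 0 = 1 := by
  rw [← E.f_one hσ]
  rfl

theorem zel_comm (a : K σ) (x : C) : E.zel a * x = x * E.zel a := by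
  rw [← E.f_co x, zel]
  obtain ⟨k, hk1, hk2⟩ := exists_k hσ (zc a) (E.co x) _ (mu_norm hσ (1 : Mu F q))
  rw [E.mul _ _ k _ _ hk1 hk2, E.mul (E.co x) (zc a) k _ _ ?_ ?_, one_mul, mul_one]
  · rw [hk1]; simp [zc]
  · rw [hk2]; simp [zc, add_comm]

theorem zel_sq (a : K σ) : E.zel a * E.zel a = 1 := by
  rw [zel, E.mul _ _ (o σ) _ _ (by simp [o, zc]) (by simp [o, zc, CharTwo.add_self_eq_zero]), mul_one,
    E.f_one hσ]

theorem sq_eq_one (heven : 2 ∣ q) {x : C} (hx : x * x = 1) : ∃ a, x = E.zel a := by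
  have h1 : E.pi hσ x * E.pi hσ x = 1 := by rw [← map_mul, hx, map_one]
  have h2 : E.pi' x = 1 := by
    have h3 : orderOf (E.pi' x) ∣ 2 := orderOf_dvd_of_pow_eq_one (by rw [pow_two]; exact h1)
    have h4 : orderOf (E.pi' x) ∣ q + 1 := by
      rw [← UCount.card_mu hσ]
      exact orderOf_dvd_natCard _
    rw [← orderOf_eq_one_iff]
    rcases (Nat.dvd_prime Nat.prime_two).1 h3 with h | h
    · exact h
    · rw [h] at h4; omega
  set g := E.co x with hg
  have hxg : x = E.f g 1 := by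
    conv_lhs => rw [← E.f_co x, h2]
  obtain ⟨k, hk1, hk2⟩ := exists_k hσ g g _ (mu_norm hσ (1 : Mu F q))
  rw [hxg, E.mul _ _ k _ _ hk1 hk2, mul_one, ← E.f_one hσ] at hx
  rw [(E.inj hx).1] at hk2
  simp only [o, Units.val_one, OneMemClass.coe_one, one_mul, CharTwo.add_self_eq_zero, zero_add] at hk2
  have hgx : g.x = 0 := by
    rcases mul_eq_zero.1 hk2.symm with h | h
    · exact (map_eq_zero σ).1 h
    · exact h
  refine ⟨⟨g.z, mem_K.2 (UnitarySylow.z_fixed hgx)⟩, hxg.trans ?_⟩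
  rw [zel]
  congr 1
  exact U.ext hgx rfl

theorem pow_ker {x : C} (hx : x ∈ (E.pi hσ).ker) : x ^ 4 = 1 := by
  obtain ⟨g, rfl⟩ : ∃ g, x = E.f g 1 := ⟨E.co x, by
    conv_lhs => rw [← E.f_co x, show E.pi' x = 1 from hx]⟩
  obtain ⟨k, hk1, hk2⟩ := exists_k hσ g g _ (mu_norm hσ (1 : Mu F q))
  have hkx : k.x = 0 := by rw [hk1]; simp [CharTwo.add_self_eq_zero]
  have hk : k = zc ⟨k.z, mem_K.2 (UnitarySylow.z_fixed hkx)⟩ := U.ext hkx rfl
  rw [show 4 = 2 * 2 from rfl, pow_mul, pow_two (E.f g 1), E.mul _ _ k _ _ hk1 hk2, mul_one, hk, pow_two]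
  exact E.zel_sq hσ _

theorem mem_ker_of_pow_two (heven : 2 ∣ q) {x : C} {j : ℕ} (hx : x ^ 2 ^ j = 1) : x ∈ (E.pi hσ).ker := by
  rw [MonoidHom.mem_ker, ← orderOf_eq_one_iff]
  have h3 : orderOf (E.pi hσ x) ∣ 2 ^ j := orderOf_dvd_of_pow_eq_one (by rw [← map_pow, hx, map_one])
  have h4 : orderOf (E.pi hσ x) ∣ q + 1 := by
    rw [← UCount.card_mu hσ]
    exact orderOf_dvd_natCard _
  refine Nat.eq_one_of_dvd_coprimes (Nat.Coprime.pow_left j ?_) h3 h4
  exact (Nat.prime_two.coprime_iff_not_dvd).2 (by omega)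

theorem mem_ker_of_commute {x : C} (hx : ∀ y ∈ (E.pi hσ).ker, y * x = x * y) : x ∈ (E.pi hσ).ker := by
  obtain ⟨h, hh⟩ := exists_z hσ (1 : F)
  have e := hx (E.f h 1) (E.pi'_f h 1)
  rw [← E.f_co x] at e
  obtain ⟨k, hk1, hk2⟩ := exists_k hσ h (E.co x) _ (mu_norm hσ (1 : Mu F q))
  obtain ⟨k', hk1', hk2'⟩ := exists_k hσ (E.co x) h _ (mu_norm hσ (E.pi' x))
  rw [E.mul _ _ k _ _ hk1 hk2, E.mul _ _ k' _ _ hk1' hk2'] at e
  rw [← (E.inj e).1, hk1, hh] at hk1'
  simp only [OneMemClass.coe_one, Units.val_one, one_mul, mul_one] at hk1'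
  rw [MonoidHom.mem_ker, pi_apply]
  apply Subtype.ext
  apply Units.ext
  simp only [OneMemClass.coe_one, Units.val_one]
  linear_combination -hk1'

end Par

end Cfsg.Agent.Lie.PGUInv
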