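import Cfsg.Agent.Lib.Lie.PGUInv.Par

/-!
Automorphisms of a parametrised centraliser are semilinear on the centre and on the torus.
-/

set_option autoImplicit false
set_option linter.unusedSectionVars false

namespace Cfsg.Agent.Lie.PGUInv

open Cfsg.Agent.Classical
open Cfsg.Agent.Lie.UnitarySylow (U exists_z)

universe u v

variable {F : Type u} [Field F] [Fintype F] [CharP F 2] {q : ℕ} {σ : F ≃+* F} (hσ : IsUSigma q σ)

include hσ

theorem exists_sqrt (heven : 2 ∣ q) (a : K σ) : ∃ b : K σ, (a : F) = (b : F) * b := by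
  have hinj : Function.Injective (fun b : K σ => b * b) := by
    intro b c h
    have h0 : ((b : F) + c) * ((b : F) + c) = 0 := by
      have h1 : (b : F) * b = c * c := congrArg Subtype.val h
      linear_combination h1 + ((c : F) * c + b * c) * CharTwo.two_eq_zero (R := F)
    exact Subtype.ext (CharTwo.add_eq_zero.1 (mul_self_eq_zero.1 h0))
  obtain ⟨b, hb⟩ := (Finite.injective_iff_surjective.1 hinj) a
  exact ⟨b, (congrArg Subtype.val hb).symm⟩

theorem subring_top (heven : 2 ∣ q) (R : Subring F) (hR : ∀ l : Mu F q, ((l : Fˣ) : F) ∈ R) : R = ⊤ := by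
  classical
  haveI : Finite R := inferInstance
  letI : Field R := Finite.isDomain_to_isField R |>.toField
  letI : Fintype R := Fintype.ofFinite R
  have hmod : Fintype.card F = Fintype.card R ^ Module.finrank R F := Module.card_eq_pow_finrank
  have hge : q + 2 ≤ Nat.card R := by
    let f : Option (Mu F q) → R := fun o => o.elim 0 (fun l => ⟨_, hR l⟩)
    have hf : Function.Injective f := by
      rintro (_ | l) (_ | m) h
      · rfl
      · exact absurd (congrArg Subtype.val h).symm (Units.ne_zero _)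
      · exact absurd (congrArg Subtype.val h) (Units.ne_zero _)
      · exact congrArg some (Subtype.ext (Units.ext (congrArg Subtype.val h :)))
    have h1 := Nat.card_le_card_of_injective f hf
    rw [Finite.card_option, UCount.card_mu hσ] at h1
    omega
  rw [Nat.card_eq_fintype_card] at hge
  have hd : Module.finrank R F = 1 := by
    rw [hσ.card] at hmod
    rcases lt_trichotomy (Module.finrank R F) 1 with h | h | h
    · rw [show Module.finrank R F = 0 by omega, pow_zero] at hmod
      have := hσ.two_le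
      nlinarith
    · exact h
    · have h2 : Fintype.card R ^ 2 ≤ Fintype.card R ^ Module.finrank R F := Nat.pow_le_pow_right (by omega) h
      nlinarith
  rw [hd, pow_one] at hmod
  refine eq_top_iff.2 fun x _ => ?_
  have hb : Function.Bijective (Subtype.val : R → F) :=
    (Fintype.bijective_iff_injective_and_card _).2 ⟨Subtype.val_injective, hmod.symm⟩
  obtain ⟨y, hy⟩ := hb.2 x
  exact hy ▸ y.2

namespace Par

variable {C : Type v} [Group C] (E : Par C q σ)

/-- Every automorphism is semilinear on the central involutions and on the torus. -/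
theorem aut_data (heven : 2 ∣ q) (φ : C ≃* C) :
    ∃ (τ : F ≃+* F) (c : F), c ≠ 0 ∧ σ c = c ∧
      (∀ a b : K σ, (b : F) = c * τ a → φ (E.zel a) = E.zel b) ∧
      ∀ x, (((E.pi hσ (φ x) : Mu F q) : Fˣ) : F) = τ (((E.pi hσ x : Mu F q) : Fˣ) : F) := by
  classical
  have hker : ∀ (ψ : C ≃* C) (g : U σ), E.pi' (ψ (E.f g 1)) = 1 := fun ψ g =>
    E.mem_ker_of_pow_two hσ heven (j := 2) (x := ψ (E.f g 1)) (by
      rw [← map_pow, show (2 : ℕ) ^ 2 = 4 from rfl, E.pow_ker hσ (E.pi'_f g 1), map_one])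
  let pU : U σ → U σ := fun g => E.co (φ (E.f g 1))
  have hpU : ∀ g, φ (E.f g 1) = E.f (pU g) 1 := fun g => by
    conv_lhs => rw [← E.f_co (φ (E.f g 1)), hker φ g]
  have hp : ∀ g h k : U σ, k.x = g.x + h.x → k.z = g.z + h.z + σ g.x * h.x →
      (pU k).x = (pU g).x + (pU h).x ∧ (pU k).z = (pU g).z + (pU h).z + σ (pU g).x * (pU h).x := by
    intro g h k h1 h2
    have e := congrArg φ (E.mul g h k 1 1 (by simpa using h1) (by simpa using h2))
    rw [map_mul, mul_one, hpU, hpU, hpU] at e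
    obtain ⟨k', hk1, hk2⟩ := exists_k hσ (pU g) (pU h) _ (mu_norm hσ (1 : Mu F q))
    rw [E.mul _ _ k' _ _ hk1 hk2, mul_one] at e
    rw [← (E.inj e).1, hk1, hk2]
    simp
  have hzx : ∀ g : U σ, g.x = 0 → (pU g).x = 0 := by
    intro g hg
    have hg' : g = zc ⟨g.z, mem_K.2 (UnitarySylow.z_fixed hg)⟩ := U.ext hg rfl
    have h1 : φ (E.f g 1) * φ (E.f g 1) = 1 := by
      rw [← map_mul, hg', show E.f (zc _) 1 = E.zel _ from rfl, E.zel_sq hσ, map_one]
    obtain ⟨b, hb⟩ := E.sq_eq_one hσ heven h1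
    rw [hpU] at hb
    rw [(E.inj hb).1]
    rfl
  have hwd : ∀ g h : U σ, g.x = h.x → (pU g).x = (pU h).x := by
    intro g h e
    obtain ⟨gi, hgi⟩ : ∃ gi : U σ, gi.x = g.x := ⟨g, rfl⟩
    obtain ⟨k, hk1, hk2⟩ := exists_k hσ g h _ (mu_norm hσ (1 : Mu F q))
    simp only [OneMemClass.coe_one, Units.val_one, one_mul] at hk1 hk2
    have h0 := (hp g h k hk1 hk2).1
    have hk : k.x = 0 := by rw [hk1, e, CharTwo.add_self_eq_zero]
    rw [hzx k hk] at h0
    exact CharTwo.add_eq_zero.1 h0.symm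
  choose zz hzz using exists_z hσ
  let X : F → F := fun x => (pU (zz x)).x
  have hX : ∀ g : U σ, (pU g).x = X g.x := fun g => hwd _ _ (hzz g.x).symm
  have hadd : ∀ a b, X (a + b) = X a + X b := by
    intro a b
    obtain ⟨k, hk1, hk2⟩ := exists_k hσ (zz a) (zz b) _ (mu_norm hσ (1 : Mu F q))
    simp only [OneMemClass.coe_one, Units.val_one, one_mul, hzz] at hk1 hk2
    have := (hp (zz a) (zz b) k (by simp only [hzz, hk1]) (by simp only [hzz, hk2])).1
    rw [hX k, hk1] at this
    exact this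
  have hX0 : ∀ a, X a = 0 → a = 0 := by
    intro a ha
    have hz : pU (zz a) = zc ⟨(pU (zz a)).z, mem_K.2 (UnitarySylow.z_fixed ha)⟩ := U.ext ha rfl
    have h1 : E.f (zz a) 1 * E.f (zz a) 1 = 1 := φ.injective (by
      rw [map_mul, hpU, hz, map_one, show E.f (zc _) 1 = E.zel _ from rfl, E.zel_sq hσ])
    obtain ⟨b, hb⟩ := E.sq_eq_one hσ heven h1
    rw [← hzz a, (E.inj hb).1]
    rfl
  have hXinj : Function.Injective X := fun a b h => CharTwo.add_eq_zero.1 (hX0 _ (by
    rw [hadd, h, CharTwo.add_self_eq_zero]))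
  let k0 : Mu F q → F := fun l => (((E.pi hσ (φ (E.f (o σ) l)) : Mu F q) : Fˣ) : F)
  have hk0 : ∀ (l : Mu F q) (a : F), X (((l : Fˣ) : F) * a) = k0 l * X a := by
    intro l a
    obtain ⟨g, hg⟩ := exists_z hσ (((l : Fˣ) : F) * a)
    obtain ⟨k, hk1, hk2⟩ := exists_k hσ (o σ) (zz a) _ (mu_norm hσ l)
    obtain ⟨k', hk1', hk2'⟩ := exists_k hσ k (o σ) _ (mu_norm hσ (1 : Mu F q))
    have e1 : E.f (o σ) l * E.f (zz a) 1 = E.f k l := by rw [E.mul _ _ k _ _ hk1 hk2, mul_one]
    have hkx : k.x = ((l : Fˣ) : F) * a := by rw [hk1, hzz]; simp [o]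
    have e2 : E.f k 1 * E.f (o σ) l = E.f k l := by
      rw [E.mul _ _ k _ _ (by simp [o]) (by simp [o]), one_mul]
    have e := congrArg φ (e1.trans e2.symm)
    rw [map_mul, map_mul, hpU, hpU, ← E.f_co (φ (E.f (o σ) l))] at e
    obtain ⟨s, hs1, hs2⟩ := exists_k hσ (E.co (φ (E.f (o σ) l))) (pU (zz a)) _
      (mu_norm hσ (E.pi' (φ (E.f (o σ) l))))
    obtain ⟨s', hs1', hs2'⟩ := exists_k hσ (pU k) (E.co (φ (E.f (o σ) l))) _ (mu_norm hσ (1 : Mu F q))
    rw [E.mul _ _ s _ _ hs1 hs2, E.mul _ _ s' _ _ hs1' hs2'] at e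
    rw [(E.inj e).1, hs1', hX k, hkx] at hs1
    simp only [OneMemClass.coe_one, Units.val_one, one_mul] at hs1
    have h2 : (pU (zz a)).x = X a := rfl
    rw [h2] at hs1
    show X _ = (((E.pi' (φ (E.f (o σ) l)) : Mu F q) : Fˣ) : F) * X a
    linear_combination hs1
  let c := X 1
  have hc : c ≠ 0 := fun h => one_ne_zero (hX0 1 h)
  let s : F → F := fun a => X a / c
  have hs1 : s 1 = 1 := div_self hc
  have hsadd : ∀ a b, s (a + b) = s a + s b := fun a b => by simp only [s, hadd, add_div]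
  have hsmu : ∀ l : Mu F q, s ((l : Fˣ) : F) = k0 l := fun l => by
    have := hk0 l 1
    rw [mul_one] at this
    show X _ / c = _
    rw [this, mul_div_assoc, div_self hc, mul_one]
  have hs0 : s 0 = 0 := by
    have := hsadd 0 0
    rw [add_zero] at this
    linear_combination -this
  let R : Subring F :=
    { carrier := {a | ∀ x, s (a * x) = s a * s x}
      mul_mem' := fun {a b} ha hb x => by
        show s (a * b * x) = s (a * b) * s x
        rw [mul_assoc, ha, hb, ha, mul_assoc]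
      one_mem' := fun x => by rw [one_mul, hs1, one_mul]
      add_mem' := fun {a b} ha hb x => by
        show s ((a + b) * x) = s (a + b) * s x
        rw [add_mul, hsadd, ha, hb, hsadd, add_mul]
      zero_mem' := fun x => by rw [zero_mul, hs0, zero_mul]
      neg_mem' := fun {a} ha x => by
        show s (-a * x) = s (-a) * s x
        rw [CharTwo.neg_eq, ha] }
  have hR : R = ⊤ := subring_top hσ heven R fun l x => by
    show s _ = _
    rw [hsmu]
    show X _ / c = k0 l * (X x / c)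
    rw [hk0, mul_div_assoc]
  have hsinj : Function.Injective s := fun a b h => hXinj (div_left_inj' hc |>.1 h)
  let τ : F ≃+* F := RingEquiv.ofBijective
    ({ toFun := s, map_one' := hs1, map_zero' := hs0, map_add' := hsadd,
       map_mul' := fun a b => (hR ▸ Subring.mem_top a : a ∈ R) b } : F →+* F)
    (Finite.injective_iff_bijective.1 hsinj)
  have hτ : ∀ a, τ a = s a := fun a => rfl
  have hsc : σ (c * σ c) = c * σ c := by rw [map_mul, hσ.involutive, mul_comm]
  refine ⟨τ, c * σ c, mul_ne_zero hc ((map_ne_zero σ).2 hc), hsc, ?_, ?_⟩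
  · intro a b hb
    obtain ⟨r, hr⟩ := exists_sqrt hσ heven a
    obtain ⟨k, hk1, hk2⟩ := exists_k hσ (zz r) (zz r) _ (mu_norm hσ (1 : Mu F q))
    simp only [OneMemClass.coe_one, Units.val_one, one_mul] at hk1 hk2
    have hka : k = zc a := by
      refine U.ext (by rw [hk1, CharTwo.add_self_eq_zero]; rfl) ?_
      rw [hk2, CharTwo.add_self_eq_zero, zero_add, hzz, mem_K.1 r.2, ← hr]
      rfl
    have h1 := hp (zz r) (zz r) k hk1 hk2
    show φ (E.f (zc a) 1) = E.f (zc b) 1
    rw [← hka, hpU]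
    congr 1
    refine U.ext (by rw [h1.1, CharTwo.add_self_eq_zero]; rfl) ?_
    rw [h1.2, CharTwo.add_self_eq_zero, zero_add]
    show σ (X r) * X r = (b : F)
    have hXr : X r = c * s r := (mul_div_cancel₀ (X r) hc).symm
    have hsr : σ (s r) = s r := by
      rw [← hτ, hσ.apply_eq, ← map_pow, ← hσ.apply_eq, mem_K.1 r.2]
    rw [hb, hr, map_mul τ, hτ, hXr, map_mul, hsr]
    ring
  · intro x
    rw [hτ, hsmu]
    show _ = (((E.pi hσ (φ (E.f (o σ) (E.pi hσ x))) : Mu F q) : Fˣ) : F)
    congr 2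
    conv_lhs => rw [← E.f_co x]
    obtain ⟨k, hk1, hk2⟩ := exists_k hσ (E.co x) (o σ) _ (mu_norm hσ (1 : Mu F q))
    have e : E.f (E.co x) 1 * E.f (o σ) (E.pi' x) = E.f (E.co x) (E.pi' x) := by
      rw [E.mul _ _ (E.co x) _ _ (by simp [o]) (by simp [o]), one_mul]
    rw [← e, map_mul φ, map_mul, show E.pi hσ (φ (E.f (E.co x) 1)) = 1 from hker φ _, one_mul]
    rfl

end Par

end Cfsg.Agent.Lie.PGUInv
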