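import Cfsg.Agent.Lib.Lie.PGUInv.Par

/-!
A group with one class of involutions whose centralisers are parametrised: points, swapping involutions
and the uniform number of involutions exchanging two points.
-/

set_option autoImplicit false
set_option linter.unusedSectionVars false

namespace Cfsg.Agent.Lie.PGUInv

open Cfsg.Agent.Classical MulAction

universe u v

/-- An involution. -/
def Inv {G : Type v} [Group G] (t : G) : Prop := t ≠ 1 ∧ t * t = 1

/-- The set-up of the recognition theorem. -/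
structure Hyp (G : Type v) [Group G] {F : Type u} [Field F] [Fintype F] (q : ℕ) (σ : F ≃+* F) : Prop where
  sigma : IsUSigma q σ
  two : 2 ∣ q
  four : 4 ≤ q
  conj : ∀ s t : G, Inv s → Inv t → ∃ g : G, g * s * g⁻¹ = t
  pair : ∃ s t : G, Inv s ∧ Inv t ∧ s * t ≠ t * s
  par : ∀ t : G, Inv t → Nonempty (Par ↥(Subgroup.centralizer ({t} : Set G)) q σ)

variable {G : Type v} [Group G]

theorem Inv.inv_eq {t : G} (h : Inv t) : t⁻¹ = t := inv_eq_of_mul_eq_one_left h.2

theorem Inv.conj {t : G} (h : Inv t) (g : G) : Inv (g * t * g⁻¹) := by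
  refine ⟨fun e => h.1 ?_, ?_⟩
  · have := congrArg (fun x => g⁻¹ * x * g) e
    simpa [mul_assoc] using this
  · calc g * t * g⁻¹ * (g * t * g⁻¹) = g * (t * t) * g⁻¹ := by group
      _ = 1 := by rw [h.2]; group

theorem mem_cent {t x : G} : x ∈ Subgroup.centralizer ({t} : Set G) ↔ x * t = t * x :=
  Subgroup.mem_centralizer_singleton_iff

/-- The stabiliser of the class of involutions commuting with `t`. -/
def Pair (t g : G) : Prop := g * t * g⁻¹ * t = t * (g * t * g⁻¹)

section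

variable {F : Type u} [Field F] [Fintype F] [CharP F 2] {q : ℕ} {σ : F ≃+* F} [Finite G] (hH : Hyp G q σ)

include hH

theorem Hyp.card_C {t : G} (ht : Inv t) : Nat.card (Subgroup.centralizer ({t} : Set G)) = q ^ 3 * (q + 1) := by
  obtain ⟨E⟩ := hH.par t ht
  exact E.card_C hH.sigma

theorem Hyp.card_pos' : 0 < q := by have := hH.four; omega

theorem Hyp.cent_eq {s t : G} (hs : Inv s) (ht : Inv t) (h : s * t = t * s) :
    Subgroup.centralizer ({s} : Set G) = Subgroup.centralizer ({t} : Set G) := by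
  obtain ⟨E⟩ := hH.par t ht
  obtain ⟨a, ha⟩ := E.sq_eq_one hH.sigma hH.two (x := ⟨s, mem_cent.2 h⟩) (Subtype.ext hs.2)
  refine (Subgroup.eq_of_le_of_card_ge (fun x hx => mem_cent.2 ?_) ?_).symm
  · have := E.zel_comm hH.sigma a ⟨x, hx⟩
    rw [← ha] at this
    exact (congrArg Subtype.val this).symm
  · rw [hH.card_C hs, hH.card_C ht]

theorem Hyp.comm_trans {r s t : G} (hr : Inv r) (hs : Inv s) (h1 : r * s = s * r) (h2 : s * t = t * s) :
    r * t = t * r := by
  have : t ∈ Subgroup.centralizer ({s} : Set G) := mem_cent.2 h2.symm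
  rw [← hH.cent_eq hr hs h1] at this
  exact (mem_cent.1 this).symm

/-- The involutions commuting with a given one. -/
abbrev Cls (t : G) : Type v := {s : G // Inv s ∧ s * t = t * s}

theorem Hyp.card_cls {t : G} (ht : Inv t) : Nat.card (Cls t) = q - 1 := by
  classical
  obtain ⟨E⟩ := hH.par t ht
  have e : Cls t ≃ {a : K σ // a ≠ 0} := by
    refine (Equiv.ofBijective (fun a : {a : K σ // a ≠ 0} =>
      (⟨(E.zel a.1).1, ⟨fun h => a.2 (E.zel_inj ?_), congrArg Subtype.val (E.zel_sq hH.sigma a.1)⟩,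
        mem_cent.1 (E.zel a.1).2⟩ : Cls t)) ⟨?_, ?_⟩).symm
    · rw [E.zel_zero hH.sigma]
      exact Subtype.ext h
    · intro a b h
      exact Subtype.ext (E.zel_inj (Subtype.ext (congrArg Subtype.val h :)))
    · rintro ⟨s, hs, hst⟩
      obtain ⟨a, ha⟩ := E.sq_eq_one hH.sigma hH.two (x := ⟨s, mem_cent.2 hst⟩) (Subtype.ext hs.2)
      refine ⟨⟨a, fun h0 => hs.1 ?_⟩, Subtype.ext (congrArg Subtype.val ha).symm⟩
      rw [h0, E.zel_zero hH.sigma] at ha
      exact congrArg Subtype.val ha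
  rw [Nat.card_congr e, Nat.card_eq_fintype_card, Fintype.card_subtype_compl, Fintype.card_subtype_eq,
    ← Nat.card_eq_fintype_card, card_K hH.sigma]

/-- An involution permuting the involutions commuting with `t` commutes with `t`. -/
theorem Hyp.comm_of_pair {t v : G} (ht : Inv t) (hv : Inv v) (h : Pair t v) : v * t = t * v := by
  classical
  have hmem : ∀ s : Cls t, Inv (v * s.1 * v⁻¹) ∧ v * s.1 * v⁻¹ * t = t * (v * s.1 * v⁻¹) := fun s => by
    refine ⟨s.2.1.conj v, hH.comm_trans (s.2.1.conj v) (ht.conj v) ?_ h⟩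
    calc v * s.1 * v⁻¹ * (v * t * v⁻¹) = v * (s.1 * t) * v⁻¹ := by group
      _ = v * (t * s.1) * v⁻¹ := by rw [s.2.2]
      _ = v * t * v⁻¹ * (v * s.1 * v⁻¹) := by group
  have hinv : Function.Involutive (fun s : Cls t => (⟨v * s.1 * v⁻¹, hmem s⟩ : Cls t)) := fun s => by
    apply Subtype.ext
    show v * (v * s.1 * v⁻¹) * v⁻¹ = s.1
    rw [hv.inv_eq, show v * (v * s.1 * v) * v = v * v * s.1 * (v * v) by group, hv.2, one_mul, mul_one]
  letI : Fintype (Cls t) := Fintype.ofFinite _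
  obtain ⟨s, hs⟩ : ∃ s : Cls t, hinv.toPerm _ s = s := by
    haveI : Fact (Nat.Prime 2) := ⟨Nat.prime_two⟩
    refine Equiv.Perm.exists_fixed_point_of_prime (p := 2) (n := 1) ?_ ?_
    · rw [← Nat.card_eq_fintype_card, hH.card_cls ht]
      have := hH.two; have := hH.four
      omega
    · rw [pow_one]
      exact Equiv.ext fun s => by rw [pow_two, Equiv.Perm.mul_apply, Equiv.Perm.one_apply]; exact hinv s
  have h2 : v * s.1 * v⁻¹ = s.1 := congrArg Subtype.val hs
  exact hH.comm_trans hv s.2.1 (by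
    conv_rhs => rw [← h2]
    group) s.2.2

/-- No odd element of an involution centraliser is inverted by an involution. -/
theorem Hyp.not_inverted {t u y : G} (ht : Inv t) (hu : Inv u) (hy : y * t = t * y) (hodd : Odd (orderOf y))
    (hinv : u * y * u = y⁻¹) : y = 1 := by
  haveI : Fact (Nat.Prime 2) := ⟨Nat.prime_two⟩
  by_contra hy1
  let Y := Subgroup.centralizer ({y} : Set G)
  let X := Subgroup.normalizer (Subgroup.zpowers y : Set G)
  have hYX : Y ≤ X := by
    intro g hg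
    rw [Subgroup.mem_normalizer_iff]
    intro z
    have hg' : Commute g y := mem_cent.1 hg
    constructor
    · rintro ⟨k, rfl⟩
      exact ⟨k, by show y ^ k = g * y ^ k * g⁻¹; rw [(hg'.zpow_right k).eq, mul_assoc, mul_inv_cancel, mul_one]⟩
    · rintro ⟨k, hk⟩
      refine ⟨k, ?_⟩
      have hk' : g * z * g⁻¹ = y ^ k := hk.symm
      show y ^ k = z
      calc y ^ k = g⁻¹ * (y ^ k) * g := by rw [mul_assoc, ← (hg'.zpow_right k).eq, inv_mul_cancel_left]
        _ = z := by rw [← hk']; group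
  have huX : u ∈ X := by
    rw [Subgroup.mem_normalizer_iff]
    have key : ∀ k : ℤ, u * y ^ k * u⁻¹ = y ^ (-k) := fun k => by
      rw [← conj_zpow, hu.inv_eq, hinv, inv_zpow, zpow_neg]
    intro z
    constructor
    · rintro ⟨k, rfl⟩
      exact ⟨-k, (key k).symm⟩
    · rintro ⟨k, hk⟩
      refine ⟨-k, ?_⟩
      show y ^ (-k) = z
      rw [← key k, show y ^ k = u * z * u⁻¹ from hk, hu.inv_eq,
        show u * (u * z * u) * u = u * u * z * (u * u) by group, hu.2, one_mul, mul_one]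
  haveI hYn : (Y.subgroupOf X).Normal := by
    constructor
    intro g hg x
    rw [Subgroup.mem_subgroupOf] at hg ⊢
    obtain ⟨k, hk⟩ := ((Subgroup.mem_normalizer_iff).1 (inv_mem x.2) y).1 (Subgroup.mem_zpowers y)
    have hk' : (x : G)⁻¹ * y * x = y ^ k := by simpa using hk.symm
    apply mem_cent.2
    show (x : G) * g * (x : G)⁻¹ * y = y * ((x : G) * g * (x : G)⁻¹)
    have hgy : Commute (g : G) (y ^ k) := (show Commute (g : G) y from mem_cent.1 hg).zpow_right k
    calc (x : G) * g * (x : G)⁻¹ * y = x * (g * ((x : G)⁻¹ * y * x)) * (x : G)⁻¹ := by group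
      _ = x * (((x : G)⁻¹ * y * x) * g) * (x : G)⁻¹ := by rw [hk', hgy.eq]
      _ = y * ((x : G) * g * (x : G)⁻¹) := by group
  -- the two-subgroup of involutions commuting with `t`
  obtain ⟨E⟩ := hH.par t ht
  have hZY : ∀ a, ((E.zel a).1 : G) ∈ Y := fun a => mem_cent.2
    (congrArg Subtype.val (E.zel_comm hH.sigma a ⟨y, mem_cent.2 hy⟩))
  let Z : Subgroup X := Subgroup.closure (Set.range fun a => (⟨(E.zel a).1, hYX (hZY a)⟩ : X))
  have hZY' : Z ≤ Y.subgroupOf X := by
    rw [Subgroup.closure_le]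
    rintro _ ⟨a, rfl⟩
    exact hZY a
  have hZp : IsPGroup 2 Z := by
    haveI : IsMulCommutative Z := Subgroup.isMulCommutative_closure (by
      rintro _ ⟨a, rfl⟩ _ ⟨b, rfl⟩
      exact Subtype.ext (congrArg Subtype.val (E.zel_comm hH.sigma a (E.zel b)) :))
    intro z
    refine ⟨1, ?_⟩
    rw [pow_one]
    obtain ⟨z, hz⟩ := z
    apply Subtype.ext
    show z ^ 2 = 1
    induction hz using Subgroup.closure_induction with
    | mem x hx =>
      obtain ⟨a, rfl⟩ := hx
      rw [pow_two]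
      exact Subtype.ext (congrArg Subtype.val (E.zel_sq hH.sigma a) :)
    | one => rw [one_pow]
    | mul x x' hx hx' h1 h2 =>
      have hc : Commute (⟨x, hx⟩ : Z) ⟨x', hx'⟩ := mul_comm' _ _
      rw [(show Commute x x' from congrArg Subtype.val hc.eq).mul_pow, h1, h2, one_mul]
    | inv x _ h1 => rw [inv_pow, h1, inv_one]
  obtain ⟨T, hT⟩ := (IsPGroup.of_card (p := 2) (n := 1) (G := Subgroup.zpowers (⟨u, huX⟩ : X)) (by
    rw [Nat.card_zpowers, pow_one]
    exact orderOf_eq_prime (by rw [pow_two]; exact Subtype.ext hu.2)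
      fun e => hu.1 (congrArg Subtype.val e))).exists_le_sylow
  obtain ⟨T', hT'⟩ := hZp.exists_le_sylow
  obtain ⟨g, rfl⟩ := MulAction.exists_smul_eq X T' T
  -- `T` contains `u` and a full commuting class inside `Y`
  let s : G := (g : G) * t * (g : G)⁻¹
  have hs : Inv s := ht.conj _
  obtain ⟨a0, ha0⟩ := E.sq_eq_one hH.sigma hH.two (x := ⟨t, mem_cent.2 rfl⟩) (Subtype.ext ht.2)
  let P : Subgroup X := ((g • T' : Sylow 2 X) : Subgroup X)
  have hP : IsPGroup 2 P := (g • T' : Sylow 2 X).2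
  have hzT : ∀ z : X, z ∈ Z → g * z * g⁻¹ ∈ P := fun z hz => by
    have := Subgroup.smul_mem_pointwise_smul z (MulAut.conj g) (T' : Subgroup X) (hT' hz)
    simpa [P, Sylow.smul_def, Sylow.pointwise_smul_def, MulAut.smul_def] using this
  have hsT : (⟨s, mul_mem (mul_mem g.2 (hYX (mem_cent.2 hy.symm))) (inv_mem g.2)⟩ : X) ∈ P := by
    have := hzT ⟨(E.zel a0).1, hYX (hZY a0)⟩ (Subgroup.subset_closure ⟨a0, rfl⟩)
    convert this using 1
    apply Subtype.ext
    show (g : G) * t * (g : G)⁻¹ = (g : G) * (E.zel a0).1 * (g : G)⁻¹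
    rw [← ha0]
  have huP : (⟨u, huX⟩ : X) ∈ P := hT (Subgroup.mem_zpowers _)
  haveI : Nontrivial P := ⟨⟨⟨_, huP⟩, 1, fun e => hu.1 (congrArg (fun x : P => ((x : X) : G)) e)⟩⟩
  obtain ⟨z, hz, hz1, hzz⟩ : ∃ z : X, z ∈ P ∧ Inv z.1 ∧ ∀ w ∈ P, z * w = w * z := by
    haveI := hP.center_nontrivial
    obtain ⟨k, hk⟩ := (hP.to_subgroup (Subgroup.center P)).exists_card_eq
    obtain ⟨z, hz⟩ := exists_prime_orderOf_dvd_card' 2 (G := Subgroup.center P) (by
      have h1 : 1 < Nat.card (Subgroup.center P) := Finite.one_lt_card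
      rw [hk] at h1 ⊢
      exact dvd_pow_self 2 (by rintro rfl; simp at h1))
    rw [← Subgroup.orderOf_coe, ← Subgroup.orderOf_coe, ← Subgroup.orderOf_coe] at hz
    refine ⟨_, z.1.2, ⟨fun e => ?_, ?_⟩, fun w hw =>
      congrArg Subtype.val (Subgroup.mem_center_iff.1 z.2 ⟨w, hw⟩).symm⟩
    · rw [e, orderOf_one] at hz; norm_num at hz
    · rw [← pow_two]; exact orderOf_dvd_iff_pow_eq_one.1 hz.dvd
  have hzu : z.1 * u = u * z.1 := congrArg Subtype.val (hzz _ huP)
  have hzs : z.1 * s = s * z.1 := congrArg Subtype.val (hzz _ hsT)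
  have hus : u * s = s * u := hH.comm_trans hu hz1 hzu.symm hzs
  -- hence `u` centralises `y`
  have hu' : (g : G)⁻¹ * u * g * t = t * ((g : G)⁻¹ * u * g) := by
    calc (g : G)⁻¹ * u * g * t = (g : G)⁻¹ * (u * s) * g := by simp only [s]; group
      _ = (g : G)⁻¹ * (s * u) * g := by rw [hus]
      _ = t * ((g : G)⁻¹ * u * g) := by simp only [s]; group
  have hw : Inv ((g : G)⁻¹ * u * g) := by simpa using hu.conj (g : G)⁻¹
  obtain ⟨b, hb⟩ := E.sq_eq_one hH.sigma hH.two (x := ⟨_, mem_cent.2 hu'⟩) (Subtype.ext hw.2)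
  have huY : (⟨u, huX⟩ : X) ∈ Y.subgroupOf X := by
    have := hYn.conj_mem ⟨(E.zel b).1, hYX (hZY b)⟩ (hZY b) g
    convert this using 1
    apply Subtype.ext
    show u = (g : G) * (E.zel b).1 * (g : G)⁻¹
    rw [← congrArg Subtype.val hb]
    group
  have h3 : u * y = y * u := mem_cent.1 huY
  rw [h3, mul_assoc, hu.2, mul_one] at hinv
  have h4 : y ^ 2 = 1 := by rw [pow_two]; nth_rw 2 [hinv]; rw [mul_inv_cancel]
  have h5 := orderOf_dvd_of_pow_eq_one h4
  rcases (Nat.dvd_prime Nat.prime_two).1 h5 with h | h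
  · exact hy1 (orderOf_eq_one_iff.1 h)
  · rw [h] at hodd; exact absurd hodd (by decide)

end

end Cfsg.Agent.Lie.PGUInv
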