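import Cfsg.Agent.Lib.Lie.PGUInv.Swap

/-!
The point stabiliser and the two-point stabiliser acting on the commuting involutions.
-/

set_option autoImplicit false
set_option linter.unusedSectionVars false

namespace Cfsg.Agent.Lie.PGUInv

open Cfsg.Agent.Classical MulAction

universe u v

variable {G : Type v} [Group G] {F : Type u} [Field F] [Fintype F] [CharP F 2] {q : ℕ} {σ : F ≃+* F}
  [Finite G] (hH : Hyp G q σ)

/-- The base point. -/
abbrev pt0 (t : G) : G ⧸ HS t := ((1 : G) : G ⧸ HS t)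

theorem stab_pt0 (t : G) : stabilizer G (pt0 t) = HS t := MulAction.stabilizer_quotient _

include hH

theorem Hyp.CI_le_HS (t : G) : CI t ≤ HS t := Subgroup.le_normalizer

theorem Hyp.conj_fix_pt0 {t : G} (ht : Inv t) {h : G} (hh : h ∈ HS t) : (h * t * h⁻¹) • pt0 t = pt0 t := by
  rw [hH.fix_iff ht (ht.conj h) 1]
  simpa [Pair] using (hH.mem_HS ht).1 hh

theorem Hyp.mem_HS_of_eq {t : G} (ht : Inv t) {g : G} {s : Cls t} (hg : g * t * g⁻¹ = s.1) : g ∈ HS t := by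
  rw [hH.mem_HS ht]
  show g * t * g⁻¹ * t = t * (g * t * g⁻¹)
  rw [hg]
  exact s.2.2

/-- Any element of the point stabiliser acts on the commuting involutions as a product of two
involutions in the two-point stabiliser. -/
theorem Hyp.exists_two {t : G} (ht : Inv t) {β : G ⧸ HS t} (hβ : pt0 t ≠ β) {h : G} (hh : h ∈ HS t) :
    ∃ v w : G, Inv v ∧ Inv w ∧ v • pt0 t = β ∧ v * w ∈ D2 (pt0 t) β ∧ (v * w)⁻¹ * h ∈ CI t := by
  obtain ⟨g, rfl⟩ := QuotientGroup.mk_surjective β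
  have hs : Inv (g * t * g⁻¹) := ht.conj g
  have hsp : (g * t * g⁻¹) • (g : G ⧸ HS t) = g := (hH.fix_iff ht hs g).2 rfl
  have htp : t • pt0 t = pt0 t := by simpa using hH.conj_fix_pt0 ht (one_mem (HS t))
  obtain ⟨v1, hv1, hv1p, hv1s⟩ := hH.swap_surj ht hβ hs hsp ht htp
  obtain ⟨v2, hv2, hv2p, hv2s⟩ := hH.swap_surj ht hβ hs hsp (ht.conj h) (hH.conj_fix_pt0 ht hh)
  refine ⟨v2, v1, hv2, hv1, hv2p, Subgroup.mem_inf.2 ⟨?_, ?_⟩, mem_cent.2 ?_⟩
  · rw [mem_stabilizer_iff, mul_smul, hv1p, ← hv2p, ← mul_smul, hv2.2, one_smul]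
  · rw [mem_stabilizer_iff, mul_smul]
    nth_rw 1 [← hv1p]
    rw [← mul_smul v1, hv1.2, one_smul, hv2p]
  · have h1 : v2 * v1 * t * (v2 * v1)⁻¹ = h * t * h⁻¹ := by
      rw [mul_inv_rev, hv1.inv_eq, hv2.inv_eq]
      calc v2 * v1 * t * (v1 * v2) = v2 * (v1 * t * v1) * v2 := by group
        _ = v2 * (v1 * (v1 * (g * t * g⁻¹) * v1) * v1) * v2 := by rw [hv1s]
        _ = v2 * ((v1 * v1) * (g * t * g⁻¹) * (v1 * v1)) * v2 := by group
        _ = h * t * h⁻¹ := by rw [hv1.2, one_mul, mul_one, hv2s]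
    calc (v2 * v1)⁻¹ * h * t = (v2 * v1)⁻¹ * (h * t * h⁻¹) * h := by group
      _ = t * ((v2 * v1)⁻¹ * h) := by rw [← h1]; group

theorem Hyp.CI_normal {t : G} : ((CI t).subgroupOf (HS t)).Normal := Subgroup.normal_in_normalizer

theorem Hyp.relIndex_CI {t : G} (ht : Inv t) (D : Subgroup G) (hD : D ≤ HS t)
    (htr : ∀ h ∈ HS t, ∃ d ∈ D, d⁻¹ * h ∈ CI t) : (CI t).relIndex D = q - 1 := by
  letI : MulAction D (Cls t) :=
    { smul := fun d s => ⟨(d : G) * s.1 * (d : G)⁻¹, s.2.1.conj _, hH.comm_trans (s.2.1.conj _) (ht.conj (d : G))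
        (by
          calc (d : G) * s.1 * (d : G)⁻¹ * (d * t * (d : G)⁻¹) = d * (s.1 * t) * (d : G)⁻¹ := by group
            _ = d * (t * s.1) * (d : G)⁻¹ := by rw [s.2.2]
            _ = _ := by group) ((hH.mem_HS ht).1 (hD d.2))⟩
      one_smul := fun s => Subtype.ext (show ((1 : D) : G) * s.1 * ((1 : D) : G)⁻¹ = s.1 by simp)
      mul_smul := fun d e s => Subtype.ext (show ((d * e : D) : G) * s.1 * ((d * e : D) : G)⁻¹ =
        (d : G) * ((e : G) * s.1 * (e : G)⁻¹) * (d : G)⁻¹ by simp [mul_assoc]) }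
  have hsm : ∀ (d : D) (s : Cls t), (d • s).1 = (d : G) * s.1 * (d : G)⁻¹ := fun _ _ => rfl
  haveI : IsPretransitive D (Cls t) := by
    have key : ∀ s : Cls t, ∃ d : D, d • (⟨t, ht, rfl⟩ : Cls t) = s := by
      intro s
      obtain ⟨g, hg⟩ := hH.conj t s.1 ht s.2.1
      obtain ⟨d, hd, hd'⟩ := htr g (hH.mem_HS_of_eq ht hg)
      refine ⟨⟨d, hd⟩, Subtype.ext ?_⟩
      rw [hsm]
      show d * t * d⁻¹ = s.1
      rw [← hg]
      calc d * t * d⁻¹ = d * (t * (d⁻¹ * g)) * g⁻¹ := by group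
        _ = d * ((d⁻¹ * g) * t) * g⁻¹ := by rw [mem_cent.1 hd']
        _ = g * t * g⁻¹ := by group
    refine ⟨fun a b => ?_⟩
    obtain ⟨d, hd⟩ := key a
    obtain ⟨e, he⟩ := key b
    exact ⟨e * d⁻¹, by rw [← hd, mul_smul, inv_smul_smul, he]⟩
  have hst : stabilizer D (⟨t, ht, rfl⟩ : Cls t) = (CI t).subgroupOf D := by
    ext d
    rw [mem_stabilizer_iff, Subgroup.mem_subgroupOf, CI, mem_cent, Subtype.ext_iff, hsm]
    exact mul_inv_eq_iff_eq_mul
  rw [Subgroup.relIndex, ← hst, index_stabilizer_of_transitive, hH.card_cls ht]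

theorem Hyp.relIndex_HS {t : G} (ht : Inv t) : (CI t).relIndex (HS t) = q - 1 :=
  hH.relIndex_CI ht _ le_rfl fun h hh => ⟨h, hh, by rw [inv_mul_cancel]; exact one_mem _⟩

theorem Hyp.card_HS {t : G} (ht : Inv t) : Nat.card (HS t) = (q - 1) * (q ^ 3 * (q + 1)) := by
  have h := Subgroup.card_mul_index ((CI t).subgroupOf (HS t))
  rw [Nat.card_congr (Subgroup.subgroupOfEquivOfLe (hH.CI_le_HS t)).toEquiv, hH.card_C ht] at h
  rw [← h, mul_comm, show ((CI t).subgroupOf (HS t)).index = q - 1 from hH.relIndex_HS ht]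

theorem Hyp.D2_le_HS {t : G} (β : G ⧸ HS t) : D2 (pt0 t) β ≤ HS t := inf_le_left.trans (stab_pt0 t).le

theorem Hyp.dvd_card_D2 {t : G} (ht : Inv t) {β : G ⧸ HS t} (hβ : pt0 t ≠ β) :
    q - 1 ∣ Nat.card (D2 (pt0 t) β) := by
  rw [← hH.relIndex_CI ht _ (hH.D2_le_HS β) fun h hh => ?_]
  · exact Subgroup.index_dvd_card _
  · obtain ⟨v, w, -, -, -, hd, hd'⟩ := hH.exists_two ht hβ hh
    exact ⟨_, hd, hd'⟩

theorem Hyp.card_stab {t : G} (ht : Inv t) (p : G ⧸ HS t) :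
    Nat.card (stabilizer G p) = (q - 1) * (q ^ 3 * (q + 1)) := by
  obtain ⟨g, rfl⟩ := QuotientGroup.mk_surjective p
  have e : (g : G ⧸ HS t) = g • pt0 t := by rw [MulAction.Quotient.smul_coe, smul_eq_mul, mul_one]
  rw [e, MulAction.stabilizer_smul_eq_stabilizer_map_conj,
    Subgroup.card_map_of_injective (MulAut.conj g).injective, stab_pt0, hH.card_HS ht]

/-- The two-point stabiliser acts abelianly on the commuting involutions. -/
theorem Hyp.D2_comm {t : G} (ht : Inv t) {β : G ⧸ HS t} (hβ : pt0 t ≠ β) {d e : G}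
    (hd : d ∈ D2 (pt0 t) β) (he : e ∈ D2 (pt0 t) β) : (e * d)⁻¹ * (d * e) ∈ CI t := by
  haveI := hH.CI_normal (t := t)
  obtain ⟨g, rfl⟩ := QuotientGroup.mk_surjective β
  have hs : Inv (g * t * g⁻¹) := ht.conj g
  have hsp : (g * t * g⁻¹) • (g : G ⧸ HS t) = g := (hH.fix_iff ht hs g).2 rfl
  have htp : t • pt0 t = pt0 t := by simpa using hH.conj_fix_pt0 ht (one_mem (HS t))
  obtain ⟨v, hv, hvp, hvs⟩ := hH.swap_surj ht hβ hs hsp ht htp
  have hvD : ∀ {x : G}, x ∈ D2 (pt0 t) (g : G ⧸ HS t) → v * x * v ∈ D2 (pt0 t) (g : G ⧸ HS t) := by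
    intro x hx
    obtain ⟨hx1, hx2⟩ := Subgroup.mem_inf.1 hx
    rw [mem_stabilizer_iff] at hx1 hx2
    have hv' : v • (g : G ⧸ HS t) = pt0 t := by rw [← hvp, ← mul_smul, hv.2, one_smul]
    refine Subgroup.mem_inf.2 ⟨?_, ?_⟩
    · rw [mem_stabilizer_iff, mul_smul, mul_smul, hvp, hx2, hv']
    · rw [mem_stabilizer_iff, mul_smul, mul_smul, hv', hx1, hvp]
  let π : HS t →* HS t ⧸ (CI t).subgroupOf (HS t) := QuotientGroup.mk' _
  have hv0 : ∀ x : G, ∀ hx : x ∈ D2 (pt0 t) (g : G ⧸ HS t), x ∈ CI t → v * x * v ∈ CI t := by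
    intro x hx hxC
    have hx' : v * x * v ∈ HS t := hH.D2_le_HS _ (hvD hx)
    have h1 := Subgroup.pow_index_mem ((CI t).subgroupOf (HS t)) ⟨_, hx'⟩
    rw [show ((CI t).subgroupOf (HS t)).index = q - 1 from hH.relIndex_HS ht] at h1
    have hord : orderOf x ∣ q + 1 := by
      have ho := hH.odd_of_mem ht hβ hx
      have hd1 : orderOf x ∣ q ^ 3 * (q + 1) := hH.card_C ht ▸ Subgroup.orderOf_dvd_natCard _ hxC
      obtain ⟨j, hj⟩ : ∃ j, q = 2 ^ j := by
        obtain ⟨p, m, _, hp, _, hqp, _, _⟩ := exists_usigma hH.sigma.card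
        refine ⟨m, ?_⟩
        have : 2 ∣ p := Nat.prime_two.dvd_of_dvd_pow (hqp ▸ hH.two)
        rw [hqp, (Nat.prime_dvd_prime_iff_eq Nat.prime_two hp).1 this]
      refine (Nat.Coprime.dvd_mul_left ?_).1 hd1
      rw [hj]
      exact ((Nat.Coprime.pow_right j (Nat.coprime_two_right.2 ho))).pow_right 3
    have h2 : (v * x * v) ^ (q + 1) = 1 := by
      have : v * x * v = v * x * v⁻¹ := by rw [hv.inv_eq]
      rw [this, conj_pow, orderOf_dvd_iff_pow_eq_one.1 hord]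
      group
    have hco : (q - 1).Coprime (q + 1) := by
      have := hH.two; have := hH.four
      rw [show q + 1 = q - 1 + 2 by omega, Nat.coprime_self_add_right]
      exact Nat.coprime_two_right.2 (Nat.odd_iff.2 (by omega))
    have h3 : π ⟨_, hx'⟩ = 1 := by
      rw [← orderOf_eq_one_iff]
      refine Nat.eq_one_of_dvd_coprimes hco (orderOf_dvd_of_pow_eq_one ?_) (orderOf_dvd_of_pow_eq_one ?_)
      · rw [← map_pow]
        exact (QuotientGroup.eq_one_iff _).2 h1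
      · rw [← map_pow, show (⟨_, hx'⟩ : HS t) ^ (q + 1) = 1 from Subtype.ext h2, map_one]
    exact (QuotientGroup.eq_one_iff (N := (CI t).subgroupOf (HS t)) _).1 h3
  have hkey : ∀ x : G, ∀ hx : x ∈ D2 (pt0 t) (g : G ⧸ HS t),
      π ⟨_, hH.D2_le_HS _ (hvD hx)⟩ = (π ⟨x, hH.D2_le_HS _ hx⟩)⁻¹ := by
    intro x hx
    have hxH := hH.D2_le_HS _ hx
    have hwfix := hH.conj_fix_pt0 ht hxH
    obtain ⟨w, hw, hwp, hws⟩ := hH.swap_surj ht hβ hs hsp (ht.conj x) hwfix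
    have hkD : w * v ∈ D2 (pt0 t) (g : G ⧸ HS t) := by
      refine Subgroup.mem_inf.2 ⟨?_, ?_⟩
      · rw [mem_stabilizer_iff, mul_smul, hvp, ← hwp, ← mul_smul, hw.2, one_smul]
      · rw [mem_stabilizer_iff, mul_smul]
        nth_rw 1 [← hvp]
        rw [← mul_smul v, hv.2, one_smul, hwp]
    have hrel : (w * v)⁻¹ * x ∈ CI t := by
      refine mem_cent.2 ?_
      have h1 : w * v * t * (w * v)⁻¹ = x * t * x⁻¹ := by
        rw [mul_inv_rev, hv.inv_eq, hw.inv_eq, ← hws]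
        calc w * v * t * (v * w) = w * (v * t * v) * w := by group
          _ = w * (v * (v * (g * t * g⁻¹) * v) * v) * w := by rw [hvs]
          _ = w * ((v * v) * (g * t * g⁻¹) * (v * v)) * w := by group
          _ = w * (g * t * g⁻¹) * w := by rw [hv.2, one_mul, mul_one]
      calc (w * v)⁻¹ * x * t = (w * v)⁻¹ * (x * t * x⁻¹) * x := by group
        _ = t * ((w * v)⁻¹ * x) := by rw [← h1]; group
    have hrelD : (w * v)⁻¹ * x ∈ D2 (pt0 t) (g : G ⧸ HS t) := mul_mem (inv_mem hkD) hx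
    have h2 := hv0 _ hrelD hrel
    have e1 : π ⟨x, hxH⟩ = π ⟨w * v, hH.D2_le_HS _ hkD⟩ := (QuotientGroup.eq (s := (CI t).subgroupOf (HS t))).2 (by
      rw [Subgroup.mem_subgroupOf]
      have := inv_mem hrel
      simpa using this)
    have e2 : π ⟨_, hH.D2_le_HS _ (hvD hx)⟩ = π ⟨_, hH.D2_le_HS _ (hvD hkD)⟩ :=
      (QuotientGroup.eq (s := (CI t).subgroupOf (HS t))).2 (by
      rw [Subgroup.mem_subgroupOf]
      have := inv_mem h2
      show (v * x * v)⁻¹ * (v * (w * v) * v) ∈ CI t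
      convert this using 1
      simp only [mul_inv_rev, inv_inv, mul_assoc, hv.inv_eq]
      simp only [← mul_assoc v v, hv.2, one_mul])
    rw [e2, e1, ← map_inv]
    congr 1
    apply Subtype.ext
    show v * (w * v) * v = (w * v)⁻¹
    rw [mul_inv_rev, hv.inv_eq, hw.inv_eq]
    simp only [mul_assoc, hv.2, mul_one]
  have e3 : π ⟨_, hH.D2_le_HS _ (hvD (mul_mem hd he))⟩ =
      π ⟨_, hH.D2_le_HS _ (hvD hd)⟩ * π ⟨_, hH.D2_le_HS _ (hvD he)⟩ := by
    rw [← map_mul]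
    congr 1
    apply Subtype.ext
    show v * (d * e) * v = v * d * v * (v * e * v)
    simp only [mul_assoc]
    simp only [← mul_assoc v v, hv.2, one_mul]
  rw [hkey _ (mul_mem hd he), hkey _ hd, hkey _ he, ← mul_inv_rev, inv_inj] at e3
  have e4 : π ⟨d * e, hH.D2_le_HS _ (mul_mem hd he)⟩ = π ⟨e * d, hH.D2_le_HS _ (mul_mem he hd)⟩ := by
    rw [e3, ← map_mul]
    rfl
  exact (QuotientGroup.eq (s := (CI t).subgroupOf (HS t))).1 e4.symm

end Cfsg.Agent.Lie.PGUInv
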