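import Cfsg.Agent.Lib.Lie.PGUInv.ParAut
import Cfsg.Agent.Lib.Lie.PGUInv.Stab

/-!
The two-point stabiliser centralises the torus of the involution centraliser.
-/

set_option autoImplicit false
set_option linter.unusedSectionVars false

namespace Cfsg.Agent.Lie.PGUInv

open Cfsg.Agent.Classical MulAction

universe u v

theorem lt_geom {b : ℕ} (hb : 2 ≤ b) : ∀ k, 2 ≤ k → k * (b - 1) + 2 ≤ b ^ k := by
  intro k hk
  induction k, hk using Nat.le_induction with
  | base =>
    obtain ⟨c, rfl⟩ : ∃ c, b = c + 2 := ⟨b - 2, by omega⟩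
    rw [show c + 2 - 1 = c + 1 by omega]
    nlinarith
  | succ k hk ih =>
    obtain ⟨c, rfl⟩ : ∃ c, b = c + 1 := ⟨b - 1, by omega⟩
    rw [Nat.add_sub_cancel] at ih ⊢
    rw [pow_succ]
    nlinarith [Nat.mul_le_mul_right (c + 1) ih, Nat.zero_le (k * c * c)]

/-- An abelian transitive semilinear group on a finite field is linear. -/
theorem semilinear_trivial {L : Type u} [Field L] [Finite L] {D : Type v} [Group D] (T : D →* RingAut L)
    (c : D → L) (hc : ∀ a : L, a ≠ 0 → ∃ d, c d = a) (hne : ∀ d, c d ≠ 0)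
    (hmul : ∀ d e, c (d * e) = c d * T d (c e)) (hcomm : ∀ d e, c d * T d (c e) = c e * T e (c d)) :
    ∀ d, T d = 1 := by
  classical
  letI : Fintype L := Fintype.ofFinite L
  let R : Subgroup (RingAut L) := T.range
  haveI : Finite (RingAut L) := Finite.of_injective (fun f : RingAut L => (⇑f : L → L)) DFunLike.coe_injective
  letI : Fintype R := Fintype.ofFinite R
  haveI : FaithfulSMul R L := ⟨fun {f g} h => Subtype.ext (RingEquiv.ext h)⟩
  let L0 := FixedPoints.subfield R L
  letI : Fintype L0 := Fintype.ofFinite L0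
  have hcard : Fintype.card L = Fintype.card L0 ^ Fintype.card R := by
    rw [← FixedPoints.finrank_eq_card R L]
    exact Module.card_eq_pow_finrank
  have hfix : ∀ d, T d = 1 → c d ∈ L0 := fun d hd f => by
    obtain ⟨f, e, rfl⟩ := f
    show T e (c d) = c d
    have h := hcomm d e
    rw [hd, RingAut.one_apply, mul_comm] at h
    exact (mul_left_cancel₀ (hne e) h).symm
  have hrep : ∀ r : R, ∃ d, T d = r.1 := fun r => r.2
  choose rep hrep using hrep
  let f : R × {m : L0 // m ≠ 0} → {a : L // a ≠ 0} := fun p => ⟨(p.2.1 : L) * c (rep p.1),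
    mul_ne_zero (fun h => p.2.2 (Subtype.ext h)) (hne _)⟩
  have hf : Function.Surjective f := by
    rintro ⟨a, ha⟩
    obtain ⟨d, rfl⟩ := hc a ha
    let r : R := ⟨T d, d, rfl⟩
    have hd' : T (d * (rep r)⁻¹) = 1 := by rw [map_mul, map_inv, hrep, mul_inv_cancel]
    refine ⟨⟨r, ⟨⟨c (d * (rep r)⁻¹), hfix _ hd'⟩, fun h => hne _ (congrArg Subtype.val h :)⟩⟩, Subtype.ext ?_⟩
    have h := hmul (d * (rep r)⁻¹) (rep r)
    rw [inv_mul_cancel_right, hd', RingAut.one_apply] at h
    exact h.symm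
  have h1 := Fintype.card_le_of_surjective f hf
  rw [Fintype.card_prod, Fintype.card_subtype_compl, Fintype.card_subtype_eq, Fintype.card_subtype_compl,
    Fintype.card_subtype_eq, hcard] at h1
  have hR : Fintype.card R = 1 := by
    by_contra h2
    have hb : 2 ≤ Fintype.card L0 := Fintype.one_lt_card
    have hk : 2 ≤ Fintype.card R := by have := Fintype.card_pos (α := R); omega
    have h3 := lt_geom hb _ hk
    omega
  intro d
  haveI : Subsingleton R := Fintype.card_le_one_iff_subsingleton.1 hR.le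
  exact congrArg Subtype.val (Subsingleton.elim (⟨T d, d, rfl⟩ : R) 1)

variable {G : Type v} [Group G] {F : Type u} [Field F] [Fintype F] [CharP F 2] {q : ℕ} {σ : F ≃+* F}
  [Finite G] (hH : Hyp G q σ)

include hH

/-- The two-point stabiliser acts trivially on the torus. -/
theorem Hyp.torus_fixed {t : G} (ht : Inv t) {β : G ⧸ HS t} (hβ : pt0 t ≠ β) (E : Par ↥(CI t) q σ)
    {d : G} (hd : d ∈ D2 (pt0 t) β) (x : CI t) :
    E.pi hH.sigma ((CI t).normalizerMonoidHom ⟨d, hH.D2_le_HS β hd⟩ x) = E.pi hH.sigma x := by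
  classical
  let D := D2 (pt0 t) β
  let φ : D → (↥(CI t) ≃* ↥(CI t)) := fun d => (CI t).normalizerMonoidHom ⟨d, hH.D2_le_HS β d.2⟩
  have hφ : ∀ (d : D) (x : CI t), (φ d x : G) = (d : G) * x * (d : G)⁻¹ := fun _ _ => rfl
  choose τ c hc hcσ hzel hpi using fun d : D => E.aut_data hH.sigma hH.two (φ d)
  have hτσ : ∀ (d : D) (a : K σ), σ (τ d a) = τ d a := fun d a => by
    rw [hH.sigma.apply_eq, ← map_pow, ← hH.sigma.apply_eq, mem_K.1 a.2]
  have hzel' : ∀ (d : D) (a : K σ), φ d (E.zel a) = E.zel ⟨c d * τ d a, mem_K.2 (by rw [map_mul, hcσ, hτσ])⟩ :=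
    fun d a => hzel d a _ rfl
  have hinj : ∀ {a b : K σ}, E.zel a = E.zel b → (a : F) = b := fun h => congrArg Subtype.val (E.zel_inj h)
  have hφmul : ∀ (d e : D) (x : CI t), φ (d * e) x = φ d (φ e x) := fun d e x => Subtype.ext (by
    rw [hφ, hφ, hφ, Subgroup.coe_mul]; group)
  have hcomp : ∀ (d e : D) (a : K σ), c (d * e) * τ (d * e) a = c d * (τ d (c e) * τ d (τ e a)) := by
    intro d e a
    have h := hφmul d e (E.zel a)
    rw [hzel', hzel', hzel'] at h
    have h' := hinj h
    rw [← map_mul (τ d)]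
    exact h'
  have hcde : ∀ d e : D, c (d * e) = c d * τ d (c e) := fun d e => by simpa using hcomp d e 1
  let res : D → RingAut (K σ) := fun d => RingEquiv.ofBijective
    ({ toFun := fun a => ⟨τ d a, mem_K.2 (hτσ d a)⟩
       map_one' := Subtype.ext (map_one (τ d))
       map_zero' := Subtype.ext (map_zero (τ d))
       map_add' := fun a b => Subtype.ext (map_add (τ d) (a : F) b)
       map_mul' := fun a b => Subtype.ext (map_mul (τ d) (a : F) b) } : K σ →+* K σ)
    (Finite.injective_iff_bijective.1 fun a b h => Subtype.ext ((τ d).injective (congrArg Subtype.val h :)))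
  let T : D →* RingAut (K σ) := MonoidHom.mk' res fun d e => RingEquiv.ext fun a => Subtype.ext (by
    show τ (d * e) a = τ d (τ e a)
    have h := hcomp d e a
    rw [hcde, mul_assoc] at h
    exact mul_left_cancel₀ ((map_ne_zero (τ d)).2 (hc e)) (mul_left_cancel₀ (hc d) h))
  let cK : D → K σ := fun d => ⟨c d, mem_K.2 (hcσ d)⟩
  obtain ⟨a0, ha0⟩ := E.sq_eq_one hH.sigma hH.two (x := ⟨t, mem_cent.2 rfl⟩) (Subtype.ext ht.2)
  have ha00 : a0 ≠ 0 := fun h => ht.1 (by
    have := congrArg Subtype.val ha0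
    rwa [h, E.zel_zero hH.sigma] at this)
  have hT : ∀ d, T d = 1 := by
    refine semilinear_trivial T cK (fun a ha => ?_) (fun d h => hc d (congrArg Subtype.val h :))
      (fun d e => Subtype.ext (hcde d e)) fun d e => Subtype.ext ?_
    · -- transitivity
      have h1 : Inv ((E.zel 1 : CI t) : G) := ⟨fun h => one_ne_zero (E.zel_inj (a := (1 : K σ)) (b := 0)
        (by rw [E.zel_zero hH.sigma]; exact Subtype.ext h)), congrArg Subtype.val (E.zel_sq hH.sigma 1)⟩
      have h2 : Inv ((E.zel a : CI t) : G) := ⟨fun h => ha (E.zel_inj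
        (by rw [E.zel_zero hH.sigma]; exact Subtype.ext h)), congrArg Subtype.val (E.zel_sq hH.sigma a)⟩
      obtain ⟨g, hg⟩ := hH.conj _ _ h1 h2
      have hgH : g ∈ HS t := by
        rw [HS, Subgroup.mem_normalizer_iff]
        intro x
        have e1 := hH.cent_eq h1 ht (mem_cent.1 (E.zel 1).2)
        have e2 := hH.cent_eq h2 ht (mem_cent.1 (E.zel a).2)
        rw [CI, ← e1, ← cent_conj g _ x, hg]
        show g * x * g⁻¹ ∈ Subgroup.centralizer _ ↔ _
        rw [e2, e1]
      obtain ⟨v, w, -, -, -, hk, hk'⟩ := hH.exists_two ht hβ hgH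
      refine ⟨⟨v * w, hk⟩, E.zel_inj (Subtype.ext ?_)⟩
      have h := hzel' ⟨v * w, hk⟩ 1
      have e : (cK ⟨v * w, hk⟩) = ⟨c ⟨v * w, hk⟩ * τ ⟨v * w, hk⟩ (1 : K σ), mem_K.2 (by rw [map_mul, hcσ, hτσ])⟩ :=
        Subtype.ext (by simp [cK])
      rw [e, ← h, hφ, ← hg]
      have hcz : (v * w)⁻¹ * g * (E.zel 1 : CI t).1 = (E.zel 1 : CI t).1 * ((v * w)⁻¹ * g) :=
        (congrArg Subtype.val (E.zel_comm hH.sigma 1 ⟨_, hk'⟩)).symm
      calc v * w * (E.zel 1 : CI t).1 * (v * w)⁻¹ = v * w * ((E.zel 1 : CI t).1 * ((v * w)⁻¹ * g)) * g⁻¹ := by group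
        _ = v * w * ((v * w)⁻¹ * g * (E.zel 1 : CI t).1) * g⁻¹ := by rw [hcz]
        _ = g * (E.zel 1 : CI t).1 * g⁻¹ := by group
    · -- commutation
      show c d * τ d (c e) = c e * τ e (c d)
      rw [← hcde, ← hcde]
      have hC := hH.D2_comm ht hβ d.2 e.2
      have h := congrArg Subtype.val (E.zel_comm hH.sigma 1 ⟨_, hC⟩)
      have h' : φ (d * e) (E.zel 1) = φ (e * d) (E.zel 1) := Subtype.ext (by
        rw [hφ, hφ, Subgroup.coe_mul, Subgroup.coe_mul]
        calc (d : G) * e * (E.zel 1 : CI t).1 * ((d : G) * e)⁻¹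
            = e * d * (((e : G) * d)⁻¹ * (d * e) * (E.zel 1 : CI t).1) * ((d : G) * e)⁻¹ := by group
          _ = e * d * ((E.zel 1 : CI t).1 * (((e : G) * d)⁻¹ * (d * e))) * ((d : G) * e)⁻¹ := by
            rw [show ((e : G) * d)⁻¹ * (d * e) * (E.zel 1 : CI t).1 =
              (E.zel 1 : CI t).1 * (((e : G) * d)⁻¹ * (d * e)) from h.symm]
          _ = e * d * (E.zel 1 : CI t).1 * ((e : G) * d)⁻¹ := by group)
      rw [hzel', hzel'] at h'
      have h3 := hinj h'
      simpa using h3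
  -- elements of odd order fixing the fixed field act trivially on the torus
  set d' : D := ⟨d, hd⟩
  have hfix : ∀ a, σ a = a → τ d' a = a := fun a ha =>
    congrArg Subtype.val (RingEquiv.congr_fun (hT d') ⟨a, ha⟩)
  have hsq : ∀ a, τ d' (τ d' a) = a := by
    intro a
    have hσσ : σ (a + σ a) = a + σ a := by rw [map_add, hH.sigma.involutive, add_comm]
    have hσp : σ (a * σ a) = a * σ a := by rw [map_mul, hH.sigma.involutive, mul_comm]
    have e1 := hfix _ hσσ
    have e2 := hfix _ hσp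
    rw [map_add] at e1
    rw [map_mul] at e2
    have h0 : (τ d' a - a) * (τ d' a - σ a) = 0 := by linear_combination τ d' a * e1 - e2
    rcases mul_eq_zero.1 h0 with h | h
    · rw [sub_eq_zero] at h; rw [h, h]
    · rw [sub_eq_zero] at h
      rw [h, hH.sigma.apply_eq, map_pow, h, ← hH.sigma.apply_eq, hH.sigma.involutive]
  have hpi2 : ∀ (n : ℕ) (x : CI t), E.pi hH.sigma (φ (d' ^ (2 * n)) x) = E.pi hH.sigma x := by
    intro n
    induction n with
    | zero =>
      intro x
      congr 1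
      apply Subtype.ext
      rw [hφ]
      simp
    | succ n ih =>
      intro x
      rw [Nat.mul_succ, pow_add, hφmul, ih, pow_two, hφmul]
      apply Subtype.ext
      apply Units.ext
      rw [hpi d', hpi d', hsq]
  obtain ⟨k, hk⟩ := hH.odd_of_mem ht hβ hd
  have hdpow : d' = d' ^ (2 * (k + 1)) := by
    apply Subtype.ext
    rw [SubmonoidClass.coe_pow, show 2 * (k + 1) = orderOf d + 1 by omega, pow_succ, pow_orderOf_eq_one, one_mul]
  show E.pi hH.sigma (φ d' x) = _
  rw [hdpow]
  exact hpi2 _ x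

end Cfsg.Agent.Lie.PGUInv
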