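import Cfsg.Agent.Lib.Lie.PGUInv.Trans
import Cfsg.Agent.S1136
import Cfsg.Agent.Lib.Classical.UnitaryOrders
import Cfsg.Agent.Lib.Solv.CIT.SzModel
import Cfsg.Agent.Lib.Small.TwentyOneSixty

/-!
The rank-one set-up; the normal subgroup of odd index is a three-dimensional unitary group.
-/

set_option autoImplicit false
set_option linter.unusedSectionVars false

namespace Cfsg.Agent.Lie.PGUInv

open Cfsg.Agent.Classical MulAction

universe u v

theorem card_psl_two_even (F' : Type) [Field F'] [Fintype F'] {m : ℕ} (hm : Fintype.card F' = 2 ^ m)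
    (hm1 : 1 ≤ m) :
    Nat.card (Matrix.ProjectiveSpecialLinearGroup (Fin 2) F') = 2 ^ m * ((2 ^ m) ^ 2 - 1) := by
  have hq : 2 ≤ 2 ^ m := Nat.le_self_pow (by omega) 2
  have hodd : Odd (2 ^ m - 1) := Nat.Even.sub_odd (by omega) (Nat.even_pow.2 ⟨even_two, by omega⟩) odd_one
  refine Small.TwentyOneSixty.card_psl (n := 2) (g := 1) ?_ ?_ one_pos Fintype.one_lt_card
  · rw [hm]
    exact Nat.coprime_two_left.2 hodd
  · rw [Fin.prod_univ_two, hm, Fin.val_zero, Fin.val_one, pow_zero, pow_one, one_mul]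
    generalize 2 ^ m = A at hq
    obtain ⟨B, rfl⟩ : ∃ B, A = B + 1 := ⟨A - 1, by omega⟩
    rw [Nat.add_sub_cancel, show (B + 1) ^ 2 = (B + 1) * B + (B + 1) by ring, Nat.add_sub_cancel]
    ring

variable {G : Type v} [Group G] {F : Type u} [Field F] [Fintype F] [CharP F 2] {q : ℕ} {σ : F ≃+* F}
  [Finite G] (hH : Hyp G q σ)

/-- The Sylow two-subgroup of the centraliser, in the whole group. -/
noncomputable def QS {t : G} (hσ : IsUSigma q σ) (E : Par ↥(CI t) q σ) : Subgroup G :=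
  (E.pi hσ).ker.map (CI t).subtype

include hH

theorem Hyp.QS_two {t : G} (E : Par ↥(CI t) q σ) {x : G} (hx : x ∈ QS hH.sigma E) : x ^ 4 = 1 := by
  obtain ⟨y, hy, rfl⟩ := hx
  exact congrArg Subtype.val (E.pow_ker hH.sigma hy)

theorem Hyp.two_transitive {t : G} (ht : Inv t) : IsMultiplyPretransitive G (G ⧸ HS t) 2 := by
  rw [is_two_pretransitive_iff]
  obtain ⟨E⟩ := hH.par t ht
  have key : ∀ a b c : G ⧸ HS t, a ≠ b → ∃ g : G, g • a = pt0 t ∧ (g • b ≠ pt0 t) := by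
    intro a b _ hab
    obtain ⟨g, hg⟩ := MulAction.exists_smul_eq G a (pt0 t)
    exact ⟨g, hg, fun e => hab (MulAction.injective g (hg.trans e.symm))⟩
  intro a b c d hab hcd
  obtain ⟨g, hga, hgb⟩ := key a b a hab
  obtain ⟨g', hgc, hgd⟩ := key c d c hcd
  obtain ⟨s, -, hs⟩ := hH.ker_transitive ht E (β := g • b) (γ := g' • d) (Ne.symm hgb) (Ne.symm hgd)
  have hs0 : (s : G) • pt0 t = pt0 t := mem_stabilizer_iff.1 ((stab_pt0 t).ge (hH.CI_le_HS t s.2))
  exact ⟨g'⁻¹ * s * g, by rw [mul_smul, mul_smul, hga, hs0, ← hgc, inv_smul_smul],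
    by rw [mul_smul, mul_smul, hs, inv_smul_smul]⟩

theorem Hyp.setup {t : G} (ht : Inv t) (E : Par ↥(CI t) q σ) :
    ∃ u : G, IsRankOneSetup G (G ⧸ HS t) (pt0 t) u (QS hH.sigma E) ∧
      Nat.card G = (q ^ 3 + 1) * (q ^ 3 * (q + 1) * (q - 1)) := by
  classical
  obtain ⟨s0, t0, hs0, ht0, hne⟩ := hH.pair
  obtain ⟨β, hβ⟩ : ∃ β : G ⧸ HS t, pt0 t ≠ β := by
    by_contra h
    push Not at h
    obtain ⟨g, hg⟩ := hH.exists_fix ht hs0
    obtain ⟨g', hg'⟩ := hH.exists_fix ht ht0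
    rw [← h g] at hg
    rw [← h g'] at hg'
    rw [hH.fix_iff ht hs0] at hg
    rw [hH.fix_iff ht ht0] at hg'
    exact hne (hH.comm_trans hs0 (ht.conj 1) hg hg'.symm)
  obtain ⟨u, hu, hup⟩ := hH.exists_swap ht hβ
  have hQle : QS hH.sigma E ≤ HS t := (Subgroup.map_subtype_le _).trans (hH.CI_le_HS t)
  have hQD : ∀ {γ : G ⧸ HS t}, pt0 t ≠ γ → ∀ x ∈ QS hH.sigma E, x • γ = γ → x = 1 := by
    intro γ hγ x hx hxγ
    have h1 : x ∈ D2 (pt0 t) γ := ⟨(stab_pt0 t).ge (hQle hx), hxγ⟩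
    have h2 : orderOf x ∣ 2 ^ 2 := orderOf_dvd_of_pow_eq_one (hH.QS_two E hx)
    exact orderOf_eq_one_iff.1 (Nat.eq_one_of_dvd_coprimes
      ((Nat.coprime_two_left.2 (hH.odd_of_mem ht hγ h1)).pow_left 2) h2 dvd_rfl)
  have hcardQ : Nat.card (QS hH.sigma E) = q ^ 3 := by
    rw [QS, Subgroup.card_map_of_injective (Subgroup.subtype_injective _), E.card_ker hH.sigma]
  refine ⟨u, ⟨hH.two_transitive ht, hu.2, hu.1, ?_, hQle.trans (stab_pt0 t).ge, ?_, ?_, ?_, ?_, ?_⟩, ?_⟩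
  · rw [mem_stabilizer_iff, hup]
    exact Ne.symm hβ
  · intro h hh x hx
    obtain ⟨y, hy, rfl⟩ := hx
    refine ⟨(CI t).normalizerMonoidHom ⟨h, (stab_pt0 t).le hh⟩ y, ?_, rfl⟩
    refine E.mem_ker_of_pow_two hH.sigma hH.two (j := 2) ?_
    rw [← map_pow, show (2 : ℕ) ^ 2 = 4 from rfl, E.pow_ker hH.sigma hy, map_one]
  · rw [hup, Subgroup.eq_bot_iff_forall]
    intro x hx
    exact hQD hβ x hx.1 hx.2
  · rw [hup]
    refine le_antisymm (sup_le (hQle.trans (stab_pt0 t).ge) inf_le_left) fun h hh => ?_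
    have hhβ : pt0 t ≠ h • β := fun e => hβ (MulAction.injective h ((mem_stabilizer_iff.1 hh).trans e))
    obtain ⟨s, hs, hsβ⟩ := hH.ker_transitive ht E hβ hhβ
    have hsQ : (s : G) ∈ QS hH.sigma E := ⟨s, hs, rfl⟩
    rw [show h = (s : G) * ((s : G)⁻¹ * h) by rw [mul_inv_cancel_left]]
    refine Subgroup.mul_mem_sup hsQ (Subgroup.mem_inf.2 ⟨?_, ?_⟩)
    · exact mul_mem (inv_mem ((stab_pt0 t).ge (hQle hsQ))) hh
    · rw [mem_stabilizer_iff, mul_smul, inv_smul_eq_iff, hsβ]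
  · rw [hcardQ]
    exact even_iff_two_dvd.2 (dvd_pow hH.two (by norm_num))
  · rw [hup]
    exact hH.D_odd ht hβ
  · -- the order
    have hΩ : Nat.card (G ⧸ HS t) = q ^ 3 + 1 := by
      have e : Option (QS hH.sigma E) ≃ G ⧸ HS t := by
        refine Equiv.ofBijective (fun o => o.elim (pt0 t) fun s => (s : G) • β) ⟨?_, ?_⟩
        · have hne' : ∀ s : QS hH.sigma E, pt0 t ≠ (s : G) • β := fun s e => hβ
            (MulAction.injective (s : G) ((mem_stabilizer_iff.1 ((stab_pt0 t).ge (hQle s.2))).trans e))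
          rintro (_ | s) (_ | s') h
          · rfl
          · exact absurd h (hne' s')
          · exact absurd h.symm (hne' s)
          · have h1 := hQD hβ _ (mul_mem (inv_mem s'.2) s.2) (by
              rw [mul_smul, inv_smul_eq_iff]
              exact h)
            exact congrArg some (Subtype.ext (inv_mul_eq_one.1 h1).symm)
        · intro γ
          by_cases hγ : pt0 t = γ
          · exact ⟨none, hγ⟩
          · obtain ⟨s, hs, hsγ⟩ := hH.ker_transitive ht E hβ hγ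
            exact ⟨some ⟨s, s, hs, rfl⟩, hsγ⟩
      rw [← Nat.card_congr e, Finite.card_option, hcardQ]
    have h := Subgroup.index_mul_card (HS t)
    rw [hH.card_HS ht, show (HS t).index = Nat.card (G ⧸ HS t) from rfl, hΩ] at h
    rw [← h]
    ring

theorem Hyp.faithful {t : G} (ht : Inv t) : FaithfulSMul G (G ⧸ HS t) := by
  obtain ⟨E⟩ := hH.par t ht
  obtain ⟨u, hS, -⟩ := hH.setup ht E
  have hu : u • pt0 t ≠ pt0 t := fun e => hS.not_mem (mem_stabilizer_iff.2 e)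
  suffices hker : ∀ m : G, (∀ p : G ⧸ HS t, m • p = p) → m = 1 from ⟨fun {g g'} h => by
    have := hker (g'⁻¹ * g) fun p => by rw [mul_smul, h p, inv_smul_smul]
    exact (inv_mul_eq_one.1 this).symm⟩
  intro m hm
  have hodd : Odd (orderOf m) := hH.odd_of_mem ht (Ne.symm hu) ⟨hm _, hm _⟩
  have hQle : QS hH.sigma E ≤ stabilizer G (pt0 t) := hS.le
  have hcomm : ∀ x ∈ QS hH.sigma E, x * m = m * x := by
    intro x hx
    have h1 : x * (m * x⁻¹ * m⁻¹) ∈ QS hH.sigma E := mul_mem hx (hS.conj_mem m (hm _) _ (inv_mem hx))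
    have h2 : (x * (m * x⁻¹ * m⁻¹)) • (u • pt0 t) = u • pt0 t := by
      rw [mul_smul, mul_smul, mul_smul, show m⁻¹ • (u • pt0 t) = u • pt0 t from inv_smul_eq_iff.2 (hm _).symm,
        hm, smul_inv_smul]
    have h3 : x * (m * x⁻¹ * m⁻¹) = 1 := by
      have h4 : x * (m * x⁻¹ * m⁻¹) ∈ QS hH.sigma E ⊓ stabilizer G (u • pt0 t) := ⟨h1, h2⟩
      rwa [hS.inf_eq_bot, Subgroup.mem_bot] at h4
    calc x * m = x * (m * x⁻¹ * m⁻¹) * (m * x) := by group
      _ = m * x := by rw [h3, one_mul]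
  obtain ⟨a, ha⟩ := E.sq_eq_one hH.sigma hH.two (x := ⟨t, mem_cent.2 rfl⟩) (Subtype.ext ht.2)
  have htQ : t ∈ QS hH.sigma E := ⟨⟨t, mem_cent.2 rfl⟩, by rw [ha]; exact E.pi'_f _ _, rfl⟩
  have hmC : m ∈ CI t := mem_cent.2 (hcomm t htQ).symm
  have h5 := E.mem_ker_of_commute hH.sigma (x := ⟨m, hmC⟩) fun y hy => Subtype.ext (hcomm y ⟨y, hy, rfl⟩)
  have h6 : orderOf m ∣ 2 ^ 2 := orderOf_dvd_of_pow_eq_one (hH.QS_two E ⟨_, h5, rfl⟩)
  exact orderOf_eq_one_iff.1 (Nat.eq_one_of_dvd_coprimes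
    ((Nat.coprime_two_left.2 hodd).pow_left 2) h6 dvd_rfl)

/-- There is a normal subgroup of odd index isomorphic to `PSU₃(q)`. -/
theorem Hyp.unitary {t : G} (ht : Inv t) :
    ∃ L : Subgroup G, L.Normal ∧ Odd L.index ∧ ∃ (F' : Type) (_ : Field F') (_ : Fintype F'),
      Fintype.card F' = q ^ 2 ∧ Nonempty (L ≃* Cfsg.PSU 3 F' q) := by
  classical
  obtain ⟨E⟩ := hH.par t ht
  obtain ⟨u, hS, hcard⟩ := hH.setup ht E
  haveI := hH.faithful ht
  have h2inv : ∃ x y : G, x ≠ 1 ∧ y ≠ 1 ∧ x ≠ y ∧ x * x = 1 ∧ y * y = 1 ∧ x * y = y * x := by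
    have h4 := hH.four
    have hc := hH.card_cls ht
    have hne : ∃ s : Cls t, s.1 ≠ t := by
      by_contra h
      push Not at h
      haveI : Subsingleton (Cls t) := ⟨fun a b => Subtype.ext ((h a).trans (h b).symm)⟩
      have := Finite.card_le_one_iff_subsingleton.2 ‹Subsingleton (Cls t)›
      omega
    obtain ⟨s, hs⟩ := hne
    exact ⟨s.1, t, s.2.1.1, ht.1, hs, s.2.1.2, ht.2, s.2.2⟩
  obtain ⟨L, hLn, hLodd, hL⟩ := Cfsg.Agent.S1136.result hS h2inv
  refine ⟨L, hLn, hLodd, ?_⟩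
  obtain ⟨j, hj2, hqj⟩ := hH.q_facts
  subst hqj
  obtain ⟨A, hA⟩ : ∃ A, A = (2 : ℕ) ^ j := ⟨_, rfl⟩
  haveI : Fact (Nat.Prime 2) := ⟨Nat.prime_two⟩
  have hA2 : Even A := hA ▸ (Nat.even_pow.2 ⟨even_two, by omega⟩)
  have hA4 : 4 ≤ A := hA ▸ hH.four
  have hLG : Nat.card L * L.index = (A ^ 3 + 1) * (A ^ 3 * (A + 1) * (A - 1)) := by
    rw [Subgroup.card_mul_index, hcard, hA]
  -- two-parts
  have hpow : ∀ {e o : ℕ}, Odd o → Nat.card L = 2 ^ e * o → e = 3 * j := by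
    intro e o ho hLe
    have h1 : (Nat.card L * L.index).factorization 2 = e := by
      rw [Nat.factorization_mul Nat.card_pos.ne' L.index_ne_zero_of_finite, Finsupp.coe_add, Pi.add_apply,
        Nat.factorization_eq_zero_of_not_dvd hLodd.not_two_dvd_nat, hLe,
        Nat.factorization_mul (by positivity) (by rintro rfl; simp at ho), Finsupp.coe_add, Pi.add_apply,
        Nat.factorization_eq_zero_of_not_dvd ho.not_two_dvd_nat, Nat.prime_two.factorization_pow,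
        Finsupp.single_eq_same]
      omega
    have ho1 : Odd ((A ^ 3 + 1) * ((A + 1) * (A - 1))) :=
      (Even.add_one (hA2.pow_of_ne_zero (by norm_num))).mul
        (hA2.add_one.mul (Nat.Even.sub_odd (by omega) hA2 odd_one))
    rw [hLG, show (A ^ 3 + 1) * (A ^ 3 * (A + 1) * (A - 1)) = 2 ^ (3 * j) * ((A ^ 3 + 1) * ((A + 1) * (A - 1))) by
      rw [show 2 ^ (3 * j) = A ^ 3 by rw [hA, ← pow_mul, mul_comm]]; ring,
      Nat.factorization_mul (by positivity) (by rintro h; rw [h] at ho1; simp at ho1), Finsupp.coe_add,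
      Pi.add_apply, Nat.factorization_eq_zero_of_not_dvd ho1.not_two_dvd_nat,
      Nat.prime_two.factorization_pow, Finsupp.single_eq_same] at h1
    omega
  -- a divisor of the order prime to the first two factors
  have hkey : ∀ d : ℕ, d ∣ Nat.card L → d.Coprime (A ^ 3 + 1) → d.Coprime (A ^ 3) → d ∣ (A + 1) * (A - 1) := by
    intro d hd h1 h3
    have h4 : d ∣ (A ^ 3 + 1) * (A ^ 3 * (A + 1) * (A - 1)) := hLG ▸ hd.mul_right _
    have h5 := h1.dvd_of_dvd_mul_left h4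
    rw [mul_assoc] at h5
    exact h3.dvd_of_dvd_mul_left h5
  have hsq : (A + 1) * (A - 1) < A ^ 3 - 1 := by
    obtain ⟨B, rfl⟩ : ∃ B, A = B + 1 := ⟨A - 1, by omega⟩
    rw [Nat.add_sub_cancel]
    have : (B + 1 + 1) * B + 1 < (B + 1) ^ 3 := by ring_nf; nlinarith
    omega
  rcases hL with ⟨F', hF1, hF2, ⟨m, hm2, hm⟩, ⟨e⟩⟩ | hSz | ⟨F', hF1, hF2, m, hm2, hm, ⟨e⟩⟩
  · exfalso
    haveI : CharP F' 2 := charP_of_card_eq_prime_pow hm
    have hc := Nat.card_congr e.toEquiv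
    rw [card_psl_two_even F' hm (by omega)] at hc
    have hm1 : Even (2 ^ m) := Nat.even_pow.2 ⟨even_two, by omega⟩
    have hm3 : m = 3 * j := hpow (o := 2 ^ m ^ 1 * 0 + ((2 ^ m) ^ 2 - 1))
      (by simpa using Nat.Even.sub_odd (Nat.one_le_pow _ _ (by positivity)) (hm1.pow_of_ne_zero two_ne_zero) odd_one)
      (by simpa using hc)
    subst hm3
    have hA3 : 2 ^ (3 * j) = A ^ 3 := by rw [hA, ← pow_mul, mul_comm]
    rw [hA3] at hc
    have hd : A ^ 3 - 1 ∣ Nat.card L := by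
      rw [hc]
      refine Dvd.dvd.mul_left ?_ _
      exact ⟨A ^ 3 + 1, by rw [mul_comm, ← Nat.sq_sub_sq, one_pow]⟩
    have h1 : 4 ≤ A ^ 3 := le_trans hA4 (Nat.le_self_pow (by norm_num) A)
    have hodd : Odd (A ^ 3 - 1) := Nat.Even.sub_odd (by omega) (hA2.pow_of_ne_zero (by norm_num)) odd_one
    have hc1 : (A ^ 3 - 1).Coprime (A ^ 3 + 1) := by
      rw [show A ^ 3 + 1 = A ^ 3 - 1 + 2 by omega, Nat.coprime_self_add_right]
      exact Nat.coprime_two_right.2 hodd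
    have hc2 : (A ^ 3 - 1).Coprime (A ^ 3) := by
      nth_rw 2 [show A ^ 3 = A ^ 3 - 1 + 1 by omega]
      rw [Nat.coprime_self_add_right]
      exact Nat.coprime_one_right _
    exact absurd (Nat.le_of_dvd (by have : 0 < A - 1 := (by omega); positivity) (hkey _ hd hc1 hc2)) (by omega)
  · exfalso
    obtain ⟨F', hF1, hF2, i, hi, hF, ⟨e⟩⟩ := hSz
    have hc := Nat.card_congr e.toEquiv
    rw [Cfsg.Agent.Solv.CITGroups.SzModel.card_model hF hi] at hc
    set B := 2 ^ (2 * i + 1) with hB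
    have hB2 : Even B := Nat.even_pow.2 ⟨even_two, by omega⟩
    have hB8 : 8 ≤ B := by
      rw [hB, show (8 : ℕ) = 2 ^ 3 from rfl]
      exact Nat.pow_le_pow_right (by norm_num) (by omega)
    have hm3 : (2 * i + 1) * 2 = 3 * j := hpow (o := (B ^ 2 + 1) * (B - 1))
      ((Even.add_one (hB2.pow_of_ne_zero two_ne_zero)).mul (Nat.Even.sub_odd (by omega) hB2 odd_one))
      (by rw [hc, hB, ← pow_mul]; ring)
    have hBA : B ^ 2 = A ^ 3 := by rw [hB, hA, ← pow_mul, ← pow_mul, hm3, mul_comm j 3]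
    have hd : B - 1 ∣ Nat.card L := hc ▸ dvd_mul_left _ _
    have hodd : Odd (B - 1) := Nat.Even.sub_odd (by omega) hB2 odd_one
    have hc1 : (B - 1).Coprime (A ^ 3 + 1) := by
      refine Nat.coprime_of_dvd fun p hp h1 h2 => ?_
      rw [← hBA] at h2
      have h3 : p ∣ (B + 1) * (B - 1) := h1.mul_left _
      have h4 : p ∣ B ^ 2 + 1 - (B + 1) * (B - 1) := Nat.dvd_sub h2 h3
      rw [← Nat.sq_sub_sq, one_pow, show B ^ 2 + 1 - (B ^ 2 - 1) = 2 by
        have : 1 ≤ B ^ 2 := Nat.one_le_pow _ _ (by omega)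
        omega] at h4
      rw [(Nat.prime_dvd_prime_iff_eq hp Nat.prime_two).1 h4] at h1
      exact hodd.not_two_dvd_nat h1
    have hc2 : (B - 1).Coprime (A ^ 3) := by
      rw [← hBA]
      refine Nat.Coprime.pow_right 2 ?_
      nth_rw 2 [show B = B - 1 + 1 by omega]
      rw [Nat.coprime_self_add_right]
      exact Nat.coprime_one_right _
    have h5 := hkey _ hd hc1 hc2
    -- `B - 1` is too large a divisor
    have h6 : Nat.gcd (2 ^ (2 * i + 1) - 1) (2 ^ (2 * j) - 1) = B - 1 := by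
      refine Nat.gcd_eq_left ?_
      have : (A + 1) * (A - 1) = 2 ^ (2 * j) - 1 := by rw [← Nat.sq_sub_sq, one_pow, hA, ← pow_mul, mul_comm j 2]
      rw [← this]
      exact h5
    rw [Nat.pow_sub_one_gcd_pow_sub_one, hB] at h6
    have h7 : Nat.gcd (2 * i + 1) (2 * j) = 2 * i + 1 := by
      refine Nat.pow_right_injective le_rfl (?_ : 2 ^ _ = 2 ^ _)
      have := Nat.two_pow_pos (Nat.gcd (2 * i + 1) (2 * j))
      omega
    obtain ⟨k, hk⟩ := Nat.gcd_eq_left_iff_dvd.1 h7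
    have : 4 = 3 * k := by
      have h8 : (2 * i + 1) * 4 = (2 * i + 1) * (3 * k) := by
        calc (2 * i + 1) * 4 = 3 * (2 * j) := by omega
          _ = (2 * i + 1) * (3 * k) := by rw [hk]; ring
      exact Nat.eq_of_mul_eq_mul_left (by omega) h8
    omega
  · have hc := Nat.card_congr e.toEquiv
    haveI : CharP F' 2 := charP_of_card_eq_prime_pow (show Fintype.card F' = 2 ^ (m * 2) by rw [hm, pow_mul])
    obtain ⟨τ, hτ⟩ : ∃ τ : F' ≃+* F', IsUSigma (2 ^ m) τ := UnitarySylow.sigma_props (by omega) hm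
    set M := 2 ^ m with hM
    have hM2 : Even M := Nat.even_pow.2 ⟨even_two, by omega⟩
    have hZ := Cfsg.Agent.Classical.UCount.card_center_SU hτ (n := 3) (by norm_num)
    have hSU := Cfsg.Agent.Local.FS.PSU3Simple.card_SU3 hτ
    have hM1 : 4 ≤ M := by
      rw [hM, show (4 : ℕ) = 2 ^ 2 from rfl]
      exact Nat.pow_le_pow_right (by norm_num) hm2
    have hPSU : Nat.card (Cfsg.PSU 3 F' M) * Nat.gcd 3 (M + 1) = 2 ^ (3 * m) * ((M ^ 2 - 1) * (M ^ 3 + 1)) := by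
      rw [← hZ, ← Subgroup.card_eq_card_quotient_mul_card_subgroup, show 2 ^ (3 * m) = M ^ 3 by rw [hM, ← pow_mul, mul_comm]]
      refine Nat.eq_of_mul_eq_mul_left (by omega : 0 < M + 1) ?_
      rw [hSU]; ring
    rw [← hc] at hPSU
    have hd : Odd (Nat.gcd 3 (M + 1)) := Odd.of_dvd_nat (by decide) (Nat.gcd_dvd_left 3 (M + 1))
    have hdd : Nat.gcd 3 (M + 1) ∣ (M ^ 2 - 1) * (M ^ 3 + 1) := Nat.Coprime.dvd_of_dvd_mul_left
      ((Nat.coprime_two_right.2 hd).pow_right _) (hPSU ▸ dvd_mul_left _ _)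
    have ho : Odd ((M ^ 2 - 1) * (M ^ 3 + 1)) :=
      (Nat.Even.sub_odd (Nat.one_le_pow _ _ (by omega)) (hM2.pow_of_ne_zero two_ne_zero) odd_one).mul
        (Even.add_one (hM2.pow_of_ne_zero (by norm_num)))
    obtain ⟨o, hoe⟩ := hdd
    have hm3 : 3 * m = 3 * j := hpow (o := o) ((hoe ▸ ho).of_dvd_nat (dvd_mul_left _ _)) (by
      refine Nat.eq_of_mul_eq_mul_right hd.pos ?_
      rw [hPSU, hoe]; ring)
    have hmj : m = j := by omega
    subst hmj
    exact ⟨F', hF1, hF2, hm, ⟨e⟩⟩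

end Cfsg.Agent.Lie.PGUInv
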