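import Cfsg.Agent.Lib.Lie.PGUInv.Point

/-!
Between any two points there are exactly `q - 1` exchanging involutions; consequences for the two-point
stabiliser.
-/

set_option autoImplicit false
set_option linter.unusedSectionVars false

namespace Cfsg.Agent.Lie.PGUInv

open Cfsg.Agent.Classical MulAction

universe u v

variable {G : Type v} [Group G] {F : Type u} [Field F] [Fintype F] [CharP F 2] {q : ℕ} {σ : F ≃+* F}
  [Finite G] (hH : Hyp G q σ)

/-- The centraliser of an involution. -/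
abbrev CI (t : G) : Subgroup G := Subgroup.centralizer ({t} : Set G)

/-- The stabiliser of a class. -/
abbrev HS (t : G) : Subgroup G := Subgroup.normalizer (CI t : Set G)

theorem cent_conj (g t x : G) : g * x * g⁻¹ ∈ CI (g * t * g⁻¹) ↔ x ∈ CI t := by
  rw [CI, CI, mem_cent, mem_cent]
  constructor
  · intro h
    have := congrArg (fun y => g⁻¹ * y * g) h
    simpa [mul_assoc] using this
  · intro h
    calc g * x * g⁻¹ * (g * t * g⁻¹) = g * (x * t) * g⁻¹ := by group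
      _ = _ := by rw [h]; group

/-- The two-point stabiliser. -/
abbrev D2 {t : G} (p p' : G ⧸ HS t) : Subgroup G := stabilizer G p ⊓ stabilizer G p'

include hH

theorem Hyp.mem_HS {t : G} (ht : Inv t) {g : G} : g ∈ HS t ↔ Pair t g := by
  rw [HS, Subgroup.mem_normalizer_iff]
  constructor
  · intro h
    exact mem_cent.1 ((h t).1 (mem_cent.2 rfl))
  · intro h x
    rw [← cent_conj g t x, show CI (g * t * g⁻¹) = CI t from hH.cent_eq (ht.conj g) ht h]

theorem Hyp.fix_iff {t v : G} (ht : Inv t) (hv : Inv v) (g : G) :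
    v • (g : G ⧸ HS t) = g ↔ v * (g * t * g⁻¹) = g * t * g⁻¹ * v := by
  rw [MulAction.Quotient.smul_coe, QuotientGroup.eq, ← inv_mem_iff]
  have e : ((v • g)⁻¹ * g)⁻¹ = g⁻¹ * v * g := by simp [mul_assoc]
  rw [e, hH.mem_HS ht]
  constructor
  · intro h
    have h' := hH.comm_of_pair ht (v := g⁻¹ * v * g) (by simpa using hv.conj g⁻¹) h
    calc v * (g * t * g⁻¹) = g * (g⁻¹ * v * g * t) * g⁻¹ := by group
      _ = g * (t * (g⁻¹ * v * g)) * g⁻¹ := by rw [h']
      _ = g * t * g⁻¹ * v := by group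
  · intro h
    have h' : g⁻¹ * v * g * t = t * (g⁻¹ * v * g) := by
      calc g⁻¹ * v * g * t = g⁻¹ * (v * (g * t * g⁻¹)) * g := by group
        _ = g⁻¹ * (g * t * g⁻¹ * v) * g := by rw [h]
        _ = t * (g⁻¹ * v * g) := by group
    show g⁻¹ * v * g * t * (g⁻¹ * v * g)⁻¹ * t = t * (g⁻¹ * v * g * t * (g⁻¹ * v * g)⁻¹)
    rw [h', mul_inv_cancel_right]

theorem Hyp.only_fix {t v : G} (ht : Inv t) (hv : Inv v) {p p' : G ⧸ HS t} (h : v • p = p)
    (h' : v • p' = p') : p = p' := by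
  obtain ⟨g, rfl⟩ := QuotientGroup.mk_surjective p
  obtain ⟨g', rfl⟩ := QuotientGroup.mk_surjective p'
  rw [hH.fix_iff ht hv] at h h'
  have hc := hH.comm_trans (ht.conj g) hv h.symm h'
  rw [QuotientGroup.eq, hH.mem_HS ht]
  show g⁻¹ * g' * t * (g⁻¹ * g')⁻¹ * t = t * (g⁻¹ * g' * t * (g⁻¹ * g')⁻¹)
  calc g⁻¹ * g' * t * (g⁻¹ * g')⁻¹ * t = g⁻¹ * ((g' * t * g'⁻¹) * (g * t * g⁻¹)) * g := by group
    _ = g⁻¹ * ((g * t * g⁻¹) * (g' * t * g'⁻¹)) * g := by rw [hc]
    _ = t * (g⁻¹ * g' * t * (g⁻¹ * g')⁻¹) := by group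

theorem Hyp.exists_fix {t v : G} (ht : Inv t) (hv : Inv v) : ∃ p : G ⧸ HS t, v • p = p := by
  obtain ⟨g, hg⟩ := hH.conj t v ht hv
  exact ⟨g, (hH.fix_iff ht hv g).2 (by rw [hg])⟩

theorem Hyp.D_odd {t : G} (ht : Inv t) {p p' : G ⧸ HS t} (hp : p ≠ p') : Odd (Nat.card (D2 p p')) := by
  by_contra h
  rw [Nat.not_odd_iff_even, even_iff_two_dvd] at h
  haveI : Fact (Nat.Prime 2) := ⟨Nat.prime_two⟩
  obtain ⟨⟨v, hv⟩, hv2⟩ := exists_prime_orderOf_dvd_card' 2 h
  rw [Subgroup.orderOf_mk] at hv2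
  refine hp (hH.only_fix ht (v := v) ⟨fun e => ?_, ?_⟩ hv.1 hv.2)
  · rw [e, orderOf_one] at hv2; norm_num at hv2
  · rw [← pow_two]; exact orderOf_dvd_iff_pow_eq_one.1 hv2.dvd

theorem Hyp.odd_of_mem {t : G} (ht : Inv t) {p p' : G ⧸ HS t} (hp : p ≠ p') {y : G} (hy : y ∈ D2 p p') :
    Odd (orderOf y) := by
  exact (hH.D_odd ht hp).of_dvd_nat ((D2 p p').orderOf_dvd_natCard hy)

/-- Exchanging involutions are determined by the image of one involution. -/
theorem Hyp.swap_inj {t : G} (ht : Inv t) {p p' : G ⧸ HS t} (hp : p ≠ p') {s v w : G} (hs : Inv s)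
    (hsp : s • p' = p') (hv : Inv v) (hw : Inv w) (hvp : v • p = p') (hwp : w • p = p')
    (h : v * s * v = w * s * w) : v = w := by
  have hv' : v • p' = p := by rw [← hvp, ← mul_smul, hv.2, one_smul]
  have hw' : w • p' = p := by rw [← hwp, ← mul_smul, hw.2, one_smul]
  have hy : w * v ∈ D2 p p' := Subgroup.mem_inf.2 ⟨by rw [mem_stabilizer_iff, mul_smul, hvp, hw'],
    by rw [mem_stabilizer_iff, mul_smul, hv', hwp]⟩
  have hcomm : w * v * s = s * (w * v) := by
    calc w * v * s = w * (v * s * v) * v := by simp [mul_assoc, hv.2]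
      _ = w * (w * s * w) * v := by rw [h]
      _ = (w * w) * s * (w * v) := by group
      _ = s * (w * v) := by rw [hw.2, one_mul]
  have h1 := hH.not_inverted hs hv hcomm (hH.odd_of_mem ht hp hy)
    (by rw [mul_inv_rev, hv.inv_eq, hw.inv_eq]; simp [mul_assoc, hv.2])
  rw [mul_eq_one_iff_eq_inv, hv.inv_eq] at h1
  exact h1.symm

theorem Hyp.card_fixer {t : G} (ht : Inv t) (p : G ⧸ HS t) :
    Nat.card {v : {v : G // Inv v} // v.1 • p = p} = q - 1 := by
  obtain ⟨g, rfl⟩ := QuotientGroup.mk_surjective p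
  rw [← hH.card_cls (ht.conj g)]
  exact Nat.card_congr
    { toFun := fun v => ⟨v.1.1, v.1.2, (hH.fix_iff ht v.1.2 g).1 v.2⟩
      invFun := fun v => ⟨⟨v.1, v.2.1⟩, (hH.fix_iff ht v.2.1 g).2 v.2.2⟩
      left_inv := fun _ => rfl
      right_inv := fun _ => rfl }

theorem Hyp.card_swap_le {t : G} (ht : Inv t) {p p' : G ⧸ HS t} (hp : p ≠ p') :
    Nat.card {v : {v : G // Inv v} // v.1 • p = p'} ≤ q - 1 := by
  obtain ⟨g', rfl⟩ := QuotientGroup.mk_surjective p'
  have hs : Inv (g' * t * g'⁻¹) := ht.conj g'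
  have hsp : (g' * t * g'⁻¹) • (g' : G ⧸ HS t) = g' := (hH.fix_iff ht hs g').2 rfl
  rw [← hH.card_fixer ht p]
  refine Nat.card_le_card_of_injective (fun v => ⟨⟨v.1.1 * (g' * t * g'⁻¹) * v.1.1,
    by simpa [v.1.2.inv_eq] using hs.conj v.1.1⟩, ?_⟩) fun v w h => ?_
  · obtain ⟨⟨v, hv⟩, hvp⟩ := v
    have hv' : v • (g' : G ⧸ HS t) = p := by
      rw [← (hvp : v • p = (g' : G ⧸ HS t)), ← mul_smul, hv.2, one_smul]
    show (v * (g' * t * g'⁻¹) * v) • p = p
    rw [mul_smul, mul_smul, (hvp : v • p = (g' : G ⧸ HS t)), hsp, hv']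
  · exact Subtype.ext (Subtype.ext (hH.swap_inj ht hp hs hsp v.1.2 w.1.2 v.2 w.2
      (congrArg (fun z => z.1.1) h :)))

/-- Every pair of points is exchanged by exactly `q - 1` involutions. -/
theorem Hyp.card_swap {t : G} (ht : Inv t) {p p' : G ⧸ HS t} (hp : p ≠ p') :
    Nat.card {v : {v : G // Inv v} // v.1 • p = p'} = q - 1 := by
  classical
  letI : Fintype (G ⧸ HS t) := Fintype.ofFinite _
  have hfix : Nat.card {v : G // Inv v} = Fintype.card (G ⧸ HS t) * (q - 1) := by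
    have e : {v : G // Inv v} ≃ (Σ x : G ⧸ HS t, {v : {v : G // Inv v} // v.1 • x = x}) :=
      { toFun := fun v => ⟨(hH.exists_fix ht v.2).choose, v, (hH.exists_fix ht v.2).choose_spec⟩
        invFun := fun z => z.2.1
        left_inv := fun _ => rfl
        right_inv := fun ⟨x, v, hv⟩ => by
          have h : (hH.exists_fix ht v.2).choose = x := hH.only_fix ht v.2 (hH.exists_fix ht v.2).choose_spec hv
          refine Sigma.subtype_ext h rfl }
    rw [Nat.card_congr e, Nat.card_sigma, Finset.sum_congr rfl fun x _ => hH.card_fixer ht x,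
      Finset.sum_const, Finset.card_univ, smul_eq_mul]
  have himg : Nat.card {v : G // Inv v} = ∑ x : G ⧸ HS t, Nat.card {v : {v : G // Inv v} // v.1 • p = x} := by
    rw [← Nat.card_sigma]
    exact Nat.card_congr (Equiv.sigmaFiberEquiv fun v : {w : G // Inv w} => (v.1 • p : G ⧸ HS t)).symm
  by_contra hne
  have hlt : ∑ x : G ⧸ HS t, Nat.card {v : {v : G // Inv v} // v.1 • p = x} < ∑ _x : G ⧸ HS t, (q - 1) := by
    refine Finset.sum_lt_sum (fun x _ => ?_) ⟨p', Finset.mem_univ _, lt_of_le_of_ne (hH.card_swap_le ht hp) hne⟩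
    by_cases hx : p = x
    · subst hx; rw [hH.card_fixer ht p]
    · exact hH.card_swap_le ht hx
  rw [← himg, hfix, Finset.sum_const, Finset.card_univ, smul_eq_mul] at hlt
  exact lt_irrefl _ hlt

theorem Hyp.exists_swap {t : G} (ht : Inv t) {p p' : G ⧸ HS t} (hp : p ≠ p') : ∃ v : G, Inv v ∧ v • p = p' := by
  have h : 0 < Nat.card {v : {v : G // Inv v} // v.1 • p = p'} := by
    rw [hH.card_swap ht hp]; have := hH.four; omega
  obtain ⟨⟨v⟩, -⟩ := Nat.card_pos_iff.1 h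
  exact ⟨v.1.1, v.1.2, v.2⟩

/-- Exchanging involutions map an involution fixing `p'` onto every involution fixing `p`. -/
theorem Hyp.swap_surj {t : G} (ht : Inv t) {p p' : G ⧸ HS t} (hp : p ≠ p') {s w : G} (hs : Inv s)
    (hsp : s • p' = p') (hw : Inv w) (hwp : w • p = p) : ∃ v : G, Inv v ∧ v • p = p' ∧ v * s * v = w := by
  classical
  let f : {v : {v : G // Inv v} // v.1 • p = p'} → {v : {v : G // Inv v} // v.1 • p = p} := fun v =>
    ⟨⟨v.1.1 * s * v.1.1, by simpa [v.1.2.inv_eq] using hs.conj v.1.1⟩, by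
      obtain ⟨⟨v, hv⟩, hvp⟩ := v
      have hv' : v • p' = p := by rw [← (hvp : v • p = p'), ← mul_smul, hv.2, one_smul]
      show (v * s * v) • p = p
      rw [mul_smul, mul_smul, (hvp : v • p = p'), hsp, hv']⟩
  have hf : Function.Injective f := fun v w h => Subtype.ext (Subtype.ext
    (hH.swap_inj ht hp hs hsp v.1.2 w.1.2 v.2 w.2 (congrArg (fun z => z.1.1) h :)))
  letI : Fintype {v : {v : G // Inv v} // v.1 • p = p'} := Fintype.ofFinite _
  letI : Fintype {v : {v : G // Inv v} // v.1 • p = p} := Fintype.ofFinite _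
  have hb := (Fintype.bijective_iff_injective_and_card f).2 ⟨hf, by
    rw [← Nat.card_eq_fintype_card, ← Nat.card_eq_fintype_card, hH.card_swap ht hp, hH.card_fixer ht]⟩
  obtain ⟨v, hv⟩ := hb.2 ⟨⟨w, hw⟩, hwp⟩
  exact ⟨v.1.1, v.1.2, v.2, congrArg (fun z => z.1.1) hv⟩

end Cfsg.Agent.Lie.PGUInv
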