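import Cfsg.Agent.Lib.Lie.PGUInv.Semi

/-!
The group is doubly transitive on the points and the Sylow two-subgroup of a point stabiliser is regular
on the other points.
-/

set_option autoImplicit false
set_option linter.unusedSectionVars false

namespace Cfsg.Agent.Lie.PGUInv

open Cfsg.Agent.Classical MulAction

universe u v

variable {G : Type v} [Group G] {F : Type u} [Field F] [Fintype F] [CharP F 2] {q : ℕ} {σ : F ≃+* F}
  [Finite G] (hH : Hyp G q σ)

include hH

theorem Hyp.q_facts : ∃ j, 2 ≤ j ∧ q = 2 ^ j := by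
  obtain ⟨p, m, _, hp, _, hqp, _, _⟩ := exists_usigma hH.sigma.card
  have h2 : 2 ∣ p := Nat.prime_two.dvd_of_dvd_pow (hqp ▸ hH.two)
  rw [(Nat.prime_dvd_prime_iff_eq Nat.prime_two hp).1 h2 |>.symm] at hqp
  refine ⟨m, ?_, hqp⟩
  by_contra h
  have := hH.four
  interval_cases m <;> simp at hqp <;> omega

/-- A prime `r` dividing `q - 1` is prime to the involution centraliser. -/
theorem Hyp.coprime_prime {r : ℕ} (hr : r.Prime) (h : r ∣ q - 1) : r ≠ 2 ∧ ¬ r ∣ q ^ 3 * (q + 1) := by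
  have h4 := hH.four
  have h2 := hH.two
  have hr2 : r ≠ 2 := by rintro rfl; omega
  refine ⟨hr2, fun hd => ?_⟩
  rcases hr.dvd_mul.1 hd with h1 | h1
  · have h3 := hr.dvd_of_dvd_pow h1
    have h5 : r ∣ q - (q - 1) := Nat.dvd_sub h3 h
    rw [show q - (q - 1) = 1 by omega] at h5
    exact hr.not_dvd_one h5
  · have h5 : r ∣ (q + 1) - (q - 1) := Nat.dvd_sub h1 h
    rw [show q + 1 - (q - 1) = 2 by omega] at h5
    exact hr2 ((Nat.prime_dvd_prime_iff_eq hr Nat.prime_two).1 h5)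

theorem Hyp.factor_stab {r : ℕ} (hr : r.Prime) (h : r ∣ q - 1) :
    ((q - 1) * (q ^ 3 * (q + 1))).factorization r = (q - 1).factorization r := by
  have h4 := hH.four
  rw [Nat.factorization_mul (by omega) (by positivity), Finsupp.coe_add, Pi.add_apply,
    Nat.factorization_eq_zero_of_not_dvd (hH.coprime_prime hr h).2, add_zero]

theorem Hyp.exists_R {t : G} (ht : Inv t) {β : G ⧸ HS t} (hβ : pt0 t ≠ β) {r : ℕ} (hr : r.Prime) :
    ∃ R : Subgroup G, R ≤ D2 (pt0 t) β ∧ Nat.card R = r ^ (q - 1).factorization r := by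
  haveI := Fact.mk hr
  obtain ⟨R, hR⟩ := Sylow.exists_subgroup_card_pow_prime r
    ((Nat.ordProj_dvd (q - 1) r).trans (hH.dvd_card_D2 ht hβ))
  exact ⟨R.map (Subgroup.subtype _), Subgroup.map_subtype_le R,
    by rw [Subgroup.card_map_of_injective (Subgroup.subtype_injective _)]; exact hR⟩

/-- Two subgroups of the largest possible `r`-power order in a subgroup fixing a point are conjugate in it. -/
theorem Hyp.conj_R {t : G} (ht : Inv t) {r : ℕ} (hr : r.Prime) (hd : r ∣ q - 1) {p : G ⧸ HS t} {D R R' : Subgroup G}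
    (hD : D ≤ stabilizer G p) (hR : R ≤ D) (hR' : R' ≤ D) (hc : Nat.card R = r ^ (q - 1).factorization r)
    (hc' : Nat.card R' = r ^ (q - 1).factorization r) :
    ∃ d ∈ D, R.map (MulAut.conj d).toMonoidHom = R' := by
  haveI := Fact.mk hr
  have h4 := hH.four
  have hfac : (Nat.card D).factorization r = (q - 1).factorization r := by
    refine le_antisymm ?_ ?_
    · rw [← hH.factor_stab hr hd, ← hH.card_stab ht p]
      exact (Nat.factorization_le_iff_dvd Nat.card_pos.ne' Nat.card_pos.ne').2 (Subgroup.card_dvd_of_le hD) r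
    · exact (hr.pow_dvd_iff_le_factorization Nat.card_pos.ne').1 (hc ▸ Subgroup.card_dvd_of_le hR)
  let S : Sylow r D := Sylow.ofCard (R.subgroupOf D)
    (by rw [hfac, Nat.card_congr (Subgroup.subgroupOfEquivOfLe hR).toEquiv, hc])
  let S' : Sylow r D := Sylow.ofCard (R'.subgroupOf D)
    (by rw [hfac, Nat.card_congr (Subgroup.subgroupOfEquivOfLe hR').toEquiv, hc'])
  obtain ⟨d, hd'⟩ := exists_smul_eq D S S'
  refine ⟨d, d.2, ?_⟩
  have h1 := congrArg (fun T : Sylow r D => ((T : Subgroup D)).map D.subtype) hd'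
  simp only [S, S', Sylow.smul_def, Sylow.pointwise_smul_def, Sylow.coe_ofCard] at h1
  rw [Subgroup.map_subgroupOf_eq_of_le hR'] at h1
  refine Subgroup.eq_of_le_of_card_ge ?_ (le_of_eq ?_)
  · rintro _ ⟨y, hy, rfl⟩
    rw [← h1]
    exact ⟨MulAut.conj d • (⟨y, hR hy⟩ : D),
      Subgroup.smul_mem_pointwise_smul _ _ _ (Subgroup.mem_subgroupOf.2 hy), rfl⟩
  · rw [Subgroup.card_map_of_injective (MulAut.conj (d : G)).injective, hc, hc']

/-- An `r`-subgroup of full order fixes exactly two points. -/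
theorem Hyp.fix_two {t : G} (ht : Inv t) {r : ℕ} (hr : r.Prime) (hd : r ∣ q - 1) {R : Subgroup G}
    (hc : Nat.card R = r ^ (q - 1).factorization r) {p₁ p₂ p₃ : G ⧸ HS t} (h₁₂ : p₁ ≠ p₂) (h₁₃ : p₁ ≠ p₃)
    (h₂₃ : p₂ ≠ p₃) (hp₁ : R ≤ stabilizer G p₁) (hp₂ : R ≤ stabilizer G p₂) (hp₃ : R ≤ stabilizer G p₃) :
    False := by
  classical
  haveI := Fact.mk hr
  obtain ⟨hr2, hrC⟩ := hH.coprime_prime hr hd
  have hRp : IsPGroup r R := IsPGroup.of_card hc
  have hne : ∃ x ∈ R, x ≠ 1 := by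
    have h4 := hH.four
    by_contra h
    push Not at h
    rw [(Subgroup.eq_bot_iff_forall R).2 h, Subgroup.card_bot] at hc
    have h1 : (q - 1).factorization r = 0 := (Nat.pow_eq_one.1 hc.symm).resolve_left hr.ne_one
    exact (hr.factorization_pos_of_dvd (by omega) hd).ne' h1
  have hfree : ∀ {v x : G}, Inv v → x ∈ R → x * v = v * x → x = 1 := by
    intro v x hv hx hxv
    obtain ⟨k, hk⟩ := hRp.exists_card_eq
    have h1 : orderOf x ∣ r ^ k := hk ▸ R.orderOf_dvd_natCard hx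
    have h2 : orderOf x ∣ q ^ 3 * (q + 1) := hH.card_C hv ▸ Subgroup.orderOf_dvd_natCard _ (mem_cent.2 hxv)
    exact orderOf_eq_one_iff.1 (Nat.eq_one_of_dvd_coprimes
      ((hr.coprime_iff_not_dvd.2 hrC).pow_left k) h1 h2)
  let Y : Subgroup G := Subgroup.centralizer (R : Set G)
  have hYodd : Odd (Nat.card Y) := by
    by_contra h
    rw [Nat.not_odd_iff_even, even_iff_two_dvd] at h
    haveI : Fact (Nat.Prime 2) := ⟨Nat.prime_two⟩
    obtain ⟨⟨v, hv⟩, hv2⟩ := exists_prime_orderOf_dvd_card' 2 h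
    rw [Subgroup.orderOf_mk] at hv2
    obtain ⟨x, hx, hx1⟩ := hne
    exact hx1 (hfree (v := v) ⟨fun e => by rw [e, orderOf_one] at hv2; norm_num at hv2,
      by rw [← pow_two]; exact orderOf_dvd_iff_pow_eq_one.1 hv2.dvd⟩ hx (Subgroup.mem_centralizer_iff.1 hv x hx))
  let Fix : Set (G ⧸ HS t) := {p | R ≤ stabilizer G p}
  -- an involution inverting `R` and exchanging two given fixed points
  have hswap : ∀ p ∈ Fix, ∀ p' ∈ Fix, p ≠ p' → ∃ u : G, Inv u ∧ u • p = p' ∧ ∀ x ∈ R, u * x * u = x⁻¹ := by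
    intro p hp p' hp' hpp
    obtain ⟨v, hv, hvp⟩ := hH.exists_swap ht hpp
    have hvp' : v • p' = p := by rw [← hvp, ← mul_smul, hv.2, one_smul]
    have hRD : R ≤ D2 p p' := le_inf hp hp'
    have hR' : R.map (MulAut.conj v).toMonoidHom ≤ D2 p p' := by
      rintro _ ⟨x, hx, rfl⟩
      obtain ⟨h1, h2⟩ := Subgroup.mem_inf.1 (hRD hx)
      rw [mem_stabilizer_iff] at h1 h2
      refine Subgroup.mem_inf.2 ⟨?_, ?_⟩
      · show (v * x * v⁻¹) • p = p
        rw [hv.inv_eq, mul_smul, mul_smul, hvp, h2, hvp']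
      · show (v * x * v⁻¹) • p' = p'
        rw [hv.inv_eq, mul_smul, mul_smul, hvp', h1, hvp]
    obtain ⟨d, hdD, hdR⟩ := hH.conj_R ht hr hd (p := p) inf_le_left hR' hRD
      (by rw [Subgroup.card_map_of_injective (MulAut.conj v).injective, hc]) hc
    rw [Subgroup.map_map] at hdR
    set w := d * v with hw
    have hwR : ∀ x ∈ R, w * x * w⁻¹ ∈ R := fun x hx => by
      rw [← hdR]
      exact ⟨x, hx, by simp [hw, mul_assoc]⟩
    obtain ⟨hd1, hd2⟩ := Subgroup.mem_inf.1 hdD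
    rw [mem_stabilizer_iff] at hd1 hd2
    have hwp : w • p = p' := by rw [hw, mul_smul, hvp, hd2]
    have hwp' : w • p' = p := by rw [hw, mul_smul, hvp', hd1]
    clear_value w
    have hsq : ∀ k : ℕ, (w ^ (2 * k)) • p = p ∧ (w ^ (2 * k)) • p' = p' := by
      intro k
      induction k with
      | zero => simp
      | succ k ih =>
        constructor
        · rw [Nat.mul_succ, pow_add, pow_two, mul_smul, mul_smul, hwp, hwp', ih.1]
        · rw [Nat.mul_succ, pow_add, pow_two, mul_smul, mul_smul, hwp', hwp, ih.2]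
    obtain ⟨i, m, hm, hord⟩ := Nat.exists_eq_two_pow_mul_odd (orderOf_pos w).ne'
    obtain ⟨j, rfl⟩ := hm
    set u := w ^ (2 * j + 1) with hu
    have hup : u • p = p' := by rw [hu, pow_succ', mul_smul, (hsq j).1, hwp]
    have hu2D : u * u ∈ D2 p p' := by
      refine Subgroup.mem_inf.2 ⟨?_, ?_⟩ <;>
      · rw [mem_stabilizer_iff, hu, ← pow_add, ← two_mul]
        first | exact (hsq _).1 | exact (hsq _).2
    have huu : u * u = 1 := by
      rw [← orderOf_eq_one_iff]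
      have h1 := hH.odd_of_mem ht hpp hu2D
      have h2 : orderOf (u * u) ∣ 2 ^ i := by
        refine orderOf_dvd_of_pow_eq_one ?_
        rw [← pow_two, hu, ← pow_mul, ← pow_mul, show (2 * j + 1) * (2 * 2 ^ i) = orderOf w * 2 by rw [hord]; ring,
          pow_mul, pow_orderOf_eq_one, one_pow]
      exact Nat.eq_one_of_dvd_coprimes ((Nat.coprime_two_left.2 h1).pow_left i) h2 dvd_rfl
    have hu1 : Inv u := ⟨fun e => hpp (by rw [e, one_smul] at hup; exact hup), huu⟩
    have huN : ∀ (k : ℕ) (x : G), x ∈ R → w ^ k * x * (w ^ k)⁻¹ ∈ R := by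
      intro k
      induction k with
      | zero => simp
      | succ k ih =>
        intro x hx
        rw [pow_succ', mul_inv_rev, show w * w ^ k * x * ((w ^ k)⁻¹ * w⁻¹) = w * (w ^ k * x * (w ^ k)⁻¹) * w⁻¹ by group]
        exact hwR _ (ih x hx)
    refine ⟨u, hu1, hup, fun x hx => ?_⟩
    let ψ : R →* R :=
      { toFun := fun y => ⟨u * y * u⁻¹, huN _ _ y.2⟩
        map_one' := Subtype.ext (by simp)
        map_mul' := fun a b => Subtype.ext (by simp [mul_assoc]) }
    have hψ : MonoidHom.FixedPointFree ψ := fun y hy => by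
      have h1 : u * (y : G) * u⁻¹ = y := congrArg Subtype.val hy
      exact Subtype.ext (hfree hu1 y.2 (mul_inv_eq_iff_eq_mul.1 h1).symm)
    have hinv : Function.Involutive ψ := fun y => Subtype.ext (by
      show u * (u * (y : G) * u⁻¹) * u⁻¹ = y
      rw [hu1.inv_eq, show u * (u * (y : G) * u) * u = u * u * y * (u * u) by group, huu, one_mul, mul_one])
    have h1 := congrArg Subtype.val (congrFun (hψ.coe_eq_inv_of_involutive hinv) ⟨x, hx⟩)
    rw [show ((ψ ⟨x, hx⟩ : R) : G) = u * x * u⁻¹ from rfl, hu1.inv_eq] at h1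
    exact h1
  have hprod : ∀ {u u' : G}, (∀ x ∈ R, u * x * u = x⁻¹) → (∀ x ∈ R, u' * x * u' = x⁻¹) → Inv u → Inv u' →
      u * u' ∈ Y := by
    intro u u' h h' hu hu'
    refine Subgroup.mem_centralizer_iff.2 fun x hx => ?_
    have h1 : u * (u' * x * u') * u = x := by rw [h' x hx, h _ (inv_mem hx), inv_inv]
    calc x * (u * u') = u * (u' * x * u') * u * (u * u') := by rw [h1]
      _ = u * u' * x * (u' * (u * u) * u') := by group
      _ = u * u' * x := by rw [hu.2, mul_one, hu'.2, mul_one]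
  have hYFix : ∀ y ∈ Y, ∀ p ∈ Fix, y • p ∈ Fix := by
    intro y hy p hp x hx
    rw [mem_stabilizer_iff, ← mul_smul, Subgroup.mem_centralizer_iff.1 hy x hx, mul_smul,
      mem_stabilizer_iff.1 (hp hx)]
  have hmove : ∀ p0 ∈ Fix, ∀ p ∈ Fix, ∀ p' ∈ Fix, p ≠ p0 → p' ≠ p0 → ∃ y ∈ Y, y • p = p' := by
    intro p0 hp0 p hp p' hp' hpn hpn'
    obtain ⟨u, hu, hup, hui⟩ := hswap p hp p0 hp0 hpn
    obtain ⟨u', hu', hup', hui'⟩ := hswap p0 hp0 p' hp' (Ne.symm hpn')
    exact ⟨u' * u, hprod hui' hui hu' hu, by rw [mul_smul, hup, hup']⟩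
  have hothers : ∀ p p' : G ⧸ HS t, ∃ p0 ∈ Fix, p ≠ p0 ∧ p' ≠ p0 := by
    intro p p'
    by_cases h1 : p ≠ p₁ ∧ p' ≠ p₁
    · exact ⟨p₁, hp₁, h1⟩
    by_cases h2 : p ≠ p₂ ∧ p' ≠ p₂
    · exact ⟨p₂, hp₂, h2⟩
    refine ⟨p₃, hp₃, ?_⟩
    simp only [not_and_or, not_not] at h1 h2
    rcases h1 with rfl | rfl <;> rcases h2 with h | h
    · exact absurd h h₁₂
    · subst h; exact ⟨h₁₃, h₂₃⟩
    · subst h; exact ⟨h₂₃, h₁₃⟩
    · exact absurd h h₁₂
  letI : MulAction Y Fix :=
    { smul := fun y p => ⟨(y : G) • p.1, hYFix y y.2 p.1 p.2⟩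
      one_smul := fun p => Subtype.ext (one_smul G p.1)
      mul_smul := fun a b p => Subtype.ext (mul_smul (a : G) (b : G) p.1) }
  haveI : IsPretransitive Y Fix := ⟨fun p p' => by
    obtain ⟨p0, hp0, h1, h2⟩ := hothers p.1 p'.1
    obtain ⟨y, hy, e⟩ := hmove p0 hp0 p.1 p.2 p'.1 p'.2 h1 h2
    exact ⟨⟨y, hy⟩, Subtype.ext e⟩⟩
  have hFodd : Odd (Nat.card Fix) := by
    rw [← index_stabilizer_of_transitive Y (⟨p₁, hp₁⟩ : Fix)]
    exact hYodd.of_dvd_nat (Subgroup.index_dvd_card _)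
  obtain ⟨u, hu, hup, hui⟩ := hswap p₁ hp₁ p₂ hp₂ h₁₂
  have huFix : ∀ p ∈ Fix, u • p ∈ Fix ∧ u • p ≠ p := by
    intro p hp
    refine ⟨fun x hx => ?_, fun e => ?_⟩
    · rw [mem_stabilizer_iff, ← mul_smul]
      have h1 := mem_stabilizer_iff.1 (hp (inv_mem hx))
      rw [show x * u = u * x⁻¹ by rw [← hui x hx]; simp [← mul_assoc, hu.2], mul_smul, h1]
    · obtain ⟨g, rfl⟩ := QuotientGroup.mk_surjective p
      obtain ⟨x, hx, hx1⟩ := hne
      have h1 : (x * u * x⁻¹) • (g : G ⧸ HS t) = g := by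
        rw [mul_smul, mul_smul, mem_stabilizer_iff.1 (hp (inv_mem hx)), e, mem_stabilizer_iff.1 (hp hx)]
      rw [hH.fix_iff ht hu] at e
      rw [hH.fix_iff ht (hu.conj x)] at h1
      have h2 := hH.comm_trans (hu.conj x) (ht.conj g) h1 e.symm
      have h3 : x * u * x⁻¹ = x * x * u := by
        calc x * u * x⁻¹ = x * (u * x⁻¹ * u) * u := by simp [mul_assoc, hu.2]
          _ = x * x * u := by rw [hui _ (inv_mem hx), inv_inv]
      rw [h3] at h2
      have h4 : (x * x) * u = u * (x * x) := by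
        have := congrArg (fun z => z * u) h2
        simpa [mul_assoc, hu.2] using this
      have h5 := hfree hu (mul_mem hx hx) h4
      have h6 : orderOf x ∣ 2 := orderOf_dvd_of_pow_eq_one (by rw [pow_two, h5])
      obtain ⟨k, hk⟩ := hRp.exists_card_eq
      exact hx1 (orderOf_eq_one_iff.1 (Nat.eq_one_of_dvd_coprimes
        (((Nat.coprime_primes hr Nat.prime_two).2 hr2).pow_left k) (hk ▸ R.orderOf_dvd_natCard hx) h6))
  let ι : Fix → Fix := fun p => ⟨u • p.1, (huFix p.1 p.2).1⟩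
  have hι : Function.Involutive ι := fun p => Subtype.ext (by
    show u • u • p.1 = p.1
    rw [← mul_smul, hu.2, one_smul])
  letI : Fintype Fix := Fintype.ofFinite _
  haveI : Fact (Nat.Prime 2) := ⟨Nat.prime_two⟩
  obtain ⟨p, hp⟩ := Equiv.Perm.exists_fixed_point_of_prime (p := 2) (n := 1) (σ := hι.toPerm)
    (by rw [← Nat.card_eq_fintype_card]; exact hFodd.not_two_dvd_nat)
    (by rw [pow_one, pow_two]; exact Equiv.ext fun z => hι z)
  exact (huFix p.1 p.2).2 (congrArg Subtype.val hp)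

/-- The centraliser of an involution is transitive on the other points, by its Sylow two-subgroup. -/
theorem Hyp.ker_transitive {t : G} (ht : Inv t) (E : Par ↥(CI t) q σ) {β γ : G ⧸ HS t} (hβ : pt0 t ≠ β)
    (hγ : pt0 t ≠ γ) : ∃ s : CI t, s ∈ (E.pi hH.sigma).ker ∧ (s : G) • β = γ := by
  classical
  obtain ⟨r, hr, hrd⟩ := Nat.exists_prime_and_dvd (n := q - 1) (by have := hH.four; omega)
  haveI := Fact.mk hr
  obtain ⟨R, hRD, hRc⟩ := hH.exists_R ht hβ hr
  obtain ⟨R', hR'D, hR'c⟩ := hH.exists_R ht hγ hr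
  obtain ⟨h, hh, hRR⟩ := hH.conj_R ht hr hrd (p := pt0 t) (D := stabilizer G (pt0 t)) le_rfl
    (hRD.trans inf_le_left) (hR'D.trans inf_le_left) hRc hR'c
  have hhp : h • pt0 t = pt0 t := mem_stabilizer_iff.1 hh
  have hhβ : h • β = γ := by
    by_contra hne
    refine hH.fix_two ht hr hrd hR'c hγ ?_ (Ne.symm hne) (hR'D.trans inf_le_left)
      (hR'D.trans inf_le_right) ?_
    · intro e
      rw [← hhp] at e
      exact hβ (MulAction.injective h e)
    · rw [← hRR]
      rintro _ ⟨x, hx, rfl⟩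
      show (h * x * h⁻¹) • h • β = h • β
      rw [← mul_smul, inv_mul_cancel_right, mul_smul, mem_stabilizer_iff.1 (hRD hx).2]
  have hhH : h ∈ HS t := (stab_pt0 t).le hh
  obtain ⟨v, w, -, -, -, hk, hk'⟩ := hH.exists_two ht hβ hhH
  -- `c β = γ` with `c` in the centraliser of `t`
  have hc : h * (v * w)⁻¹ ∈ CI t := by
    have := ((Subgroup.mem_normalizer_iff.1 (hH.D2_le_HS β hk)) ((v * w)⁻¹ * h)).1 hk'
    simpa [mul_assoc] using this
  have hcβ : (h * (v * w)⁻¹) • β = γ := by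
    rw [mul_smul, mem_stabilizer_iff.1 (inv_mem (Subgroup.mem_inf.1 hk).2), hhβ]
  set c : CI t := ⟨_, hc⟩
  -- an `R`-fixed element in the coset of `c`
  let X : Type v := {x : CI t // E.pi hH.sigma x = E.pi hH.sigma c}
  letI : MulAction R X :=
    { smul := fun d x => ⟨(CI t).normalizerMonoidHom ⟨(d : G), hH.D2_le_HS β (hRD d.2)⟩ x.1, by
        rw [hH.torus_fixed ht hβ E (hRD d.2), x.2]⟩
      one_smul := fun x => Subtype.ext (Subtype.ext (show ((1 : R) : G) * (x.1 : G) * ((1 : R) : G)⁻¹ = x.1 by simp))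
      mul_smul := fun d e x => Subtype.ext (Subtype.ext
        (show ((d * e : R) : G) * (x.1 : G) * ((d * e : R) : G)⁻¹ =
          (d : G) * ((e : G) * (x.1 : G) * (e : G)⁻¹) * (d : G)⁻¹ by simp [mul_assoc])) }
  have hX : Nat.card X = q ^ 3 := by
    rw [← E.card_ker hH.sigma]
    refine Nat.card_congr
      { toFun := fun x => ⟨x.1 * c⁻¹, by rw [MonoidHom.mem_ker, map_mul, map_inv, x.2, mul_inv_cancel]⟩
        invFun := fun s => ⟨s.1 * c, by rw [map_mul, MonoidHom.mem_ker.1 s.2, one_mul]⟩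
        left_inv := fun x => Subtype.ext (by simp)
        right_inv := fun s => Subtype.ext (by simp) }
  obtain ⟨x, hx⟩ := (IsPGroup.of_card hRc).nonempty_fixed_point_of_prime_not_dvd_card X (by
    rw [hX]
    intro hd
    obtain ⟨j, -, hj⟩ := hH.q_facts
    exact (hH.coprime_prime hr hrd).1 ((Nat.prime_dvd_prime_iff_eq hr Nat.prime_two).1
      (hr.dvd_of_dvd_pow (hj ▸ hr.dvd_of_dvd_pow hd))))
  have hxR : ∀ d ∈ R, d * (x.1 : G) = (x.1 : G) * d := by
    intro d hd
    have h1 := congrArg (fun z : X => (z.1 : G)) (hx ⟨d, hd⟩)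
    exact mul_inv_eq_iff_eq_mul.1 (show d * (x.1 : G) * d⁻¹ = x.1 from h1)
  have hxp : (x.1 : G) • pt0 t = pt0 t :=
    mem_stabilizer_iff.1 ((stab_pt0 t).ge (hH.CI_le_HS t x.1.2))
  have hxβ : (x.1 : G) • β = β := by
    by_contra hne
    refine hH.fix_two ht hr hrd hRc hβ ?_ (Ne.symm hne) (hRD.trans inf_le_left) (hRD.trans inf_le_right) ?_
    · intro e
      rw [← hxp] at e
      exact hβ (MulAction.injective _ e)
    · intro d hd
      rw [mem_stabilizer_iff, ← mul_smul, hxR d hd, mul_smul, mem_stabilizer_iff.1 (hRD hd).2]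
  refine ⟨c * x.1⁻¹, by rw [MonoidHom.mem_ker, map_mul, map_inv, x.2, mul_inv_cancel], ?_⟩
  show ((h * (v * w)⁻¹) * (x.1 : G)⁻¹) • β = γ
  rw [mul_smul, inv_smul_eq_iff.2 hxβ.symm, hcβ]

end Cfsg.Agent.Lie.PGUInv
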